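import Cfsg.Agent.Lib.Amalgam.SpreadField
import Mathlib.LinearAlgebra.Projectivization.Basic
import Mathlib.LinearAlgebra.Dimension.Free
import Mathlib.LinearAlgebra.FiniteDimensional.Basic
import Mathlib.LinearAlgebra.Dual.Lemmas
import Mathlib.LinearAlgebra.Matrix.DotProduct

/-!
# A spread with enough shifts comes from a vector space over a field
-/

set_option autoImplicit false

open scoped LinearAlgebra.Projectivization Matrix

namespace CfsgLib.SymmDesign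

/-- Components partitioning an elementary abelian group, closed under the sum of two components,
with a family of hyperplane-like subgroups and shifts along each flag. -/
structure Spread (V : Type*) [AddCommGroup V] (P Q : Type*) where
  q : ℕ
  two_le_q : 2 ≤ q
  two_points : Nontrivial P
  exponent : ∃ r : ℕ, r.Prime ∧ ∀ v : V, r • v = 0
  E : P → AddSubgroup V
  card_E : ∀ p, Nat.card (E p) = q
  cover : ∀ v : V, v ≠ 0 → ∃ p, v ∈ E p
  disj : ∀ p p', p ≠ p' → ∀ v : V, v ∈ E p → v ∈ E p' → v = 0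
  span : ∀ p p' p'' (v : V), p ≠ p' → v ∈ E p'' → v ≠ 0 → v ∈ E p ⊔ E p' → E p'' ≤ E p ⊔ E p'
  M : Q → AddSubgroup V
  inj : Function.Injective M
  card_Q : Nat.card Q = Nat.card P
  card_M : ∀ i, Nat.card (M i) * q = Nat.card V
  union : ∀ i p (v : V), v ∈ E p → v ∈ M i → v ≠ 0 → E p ≤ M i
  sep : ∀ p p', p ≠ p' → ∃ i, E p ≤ M i ∧ ¬E p' ≤ M i
  shift : ∀ p i, E p ≤ M i → ∃ A : AddSubgroup (V →+ V), Nat.card A = q ∧ ∀ δ ∈ A,
    (∀ v, δ v ∈ E p) ∧ (∀ v ∈ M i, δ v = 0) ∧ (∀ v, v ∉ M i → δ v = 0 → δ = 0) ∧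
    ∀ X, ∃ X', ∀ x ∈ E X, x + δ x ∈ E X'

namespace Spread

variable {V : Type*} [AddCommGroup V] [Finite V] {P Q : Type*} (S : Spread V P Q)

/-- The maps from the component `X` to `Y` whose graph is a component. -/
def Graph (X Y : P) (φ : S.E X →+ S.E Y) : Prop :=
  ∃ X', ∀ x : S.E X, (x : V) + φ x ∈ S.E X'

theorem exists_ne_zero (p : P) : ∃ v ∈ S.E p, v ≠ 0 := by
  by_contra! h
  have : Nat.card (S.E p) ≤ 1 := Finite.card_le_one_iff_subsingleton.2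
    ⟨fun a b => Subtype.ext ((h a a.2).trans (h b b.2).symm)⟩
  have := S.card_E p; have := S.two_le_q; omega

theorem eq_of_mem {p p' : P} {v : V} (h : v ∈ S.E p) (h' : v ∈ S.E p') (hv : v ≠ 0) : p = p' :=
  by_contra fun hne => hv (S.disj p p' hne v h h')

theorem graph_ext {X Y : P} (hXY : X ≠ Y) {φ ψ : S.E X →+ S.E Y} (hφ : S.Graph X Y φ)
    (hψ : S.Graph X Y ψ) {x : S.E X} (hx : x ≠ 0) (h : φ x = ψ x) : φ = ψ := by
  obtain ⟨X', hX'⟩ := hφ
  obtain ⟨X'', hX''⟩ := hψ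
  have hne : (x : V) + φ x ≠ 0 := fun e => hx (Subtype.ext (S.disj X Y hXY _ x.2
    (by rw [eq_neg_of_add_eq_zero_left e]; exact neg_mem (φ x).2)))
  have e : X' = X'' := S.eq_of_mem (hX' x) (h ▸ hX'' x) hne
  subst e
  have hXY' : X' ≠ Y := fun e => hx (Subtype.ext (S.disj X Y hXY _ x.2
    (by have := sub_mem (e ▸ hX' x) (φ x).2; simpa using this)))
  ext y
  have h1 : ((φ y : V) - ψ y) ∈ S.E X' := by
    have := sub_mem (hX' y) (hX'' y); simpa using this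
  exact sub_eq_zero.1 (S.disj X' Y hXY' _ h1 (sub_mem (φ y).2 (ψ y).2))

theorem exists_shift_group (Y : P) (i : Q) (hY : S.E Y ≤ S.M i) :
    ∃ A : AddSubgroup (V →+ S.E Y), Nat.card A = S.q ∧
      (∀ δ ∈ A, (∀ v ∈ S.M i, δ v = 0) ∧ (∀ v, v ∉ S.M i → δ v = 0 → δ = 0)) ∧
      (∀ δ ∈ A, ∀ X, S.Graph X Y (δ.comp (S.E X).subtype)) ∧
      ∀ v, v ∉ S.M i → ∀ y : S.E Y, ∃ δ ∈ A, δ v = y := by
  obtain ⟨A, hA, hA'⟩ := S.shift Y i hY
  let c : (V →+ S.E Y) →+ (V →+ V) := AddMonoidHom.compHom (S.E Y).subtype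
  have hc : ∀ f v, c f v = (f v : V) := fun f v => rfl
  have hcinj : Function.Injective c := fun f g h => by
    ext v; rw [← hc, ← hc, h]
  have hAc : ∀ δ ∈ A, ∃ f, c f = δ := fun δ hδ =>
    ⟨δ.codRestrict _ (hA' δ hδ).1, by ext v; rfl⟩
  have e : A.comap c ≃ A :=
    Equiv.ofBijective (fun f => ⟨c f.1, f.2⟩) ⟨fun f g h => Subtype.ext
      (hcinj (congrArg Subtype.val h)), fun δ => by
        obtain ⟨f, hf⟩ := hAc δ.1 δ.2
        exact ⟨⟨f, show c f ∈ A by rw [hf]; exact δ.2⟩, Subtype.ext hf⟩⟩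
  have h1 : ∀ δ ∈ A.comap c, (∀ v ∈ S.M i, δ v = 0) ∧
      (∀ v, v ∉ S.M i → δ v = 0 → δ = 0) := fun δ hδ => by
    obtain ⟨-, h1, h2, -⟩ := hA' (c δ) hδ
    exact ⟨fun v hv => Subtype.ext (h1 v hv), fun v hv h => hcinj (by
      rw [h2 v hv (by rw [hc, h]; rfl), map_zero])⟩
  refine ⟨A.comap c, (Nat.card_congr e).trans hA, h1, fun δ hδ X => ?_, fun v hv y => ?_⟩
  · obtain ⟨X', hX'⟩ := (hA' (c δ) hδ).2.2.2 X
    exact ⟨X', fun x => hX' x x.2⟩
  · have hbij : Function.Bijective (fun δ : A.comap c => δ.1 v) := by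
      haveI : Finite A := Nat.finite_of_card_ne_zero (by rw [hA]; have := S.two_le_q; omega)
      haveI : Finite (A.comap c) := Finite.of_equiv _ e.symm
      refine (Nat.bijective_iff_injective_and_card _).2 ⟨fun δ δ' h => ?_,
        ((Nat.card_congr e).trans hA).trans (S.card_E Y).symm⟩
      exact Subtype.ext (sub_eq_zero.1 ((h1 _ (sub_mem δ.2 δ'.2)).2 v hv (sub_eq_zero.2 h)))
    obtain ⟨δ, hδ⟩ := hbij.2 y
    exact ⟨δ.1, δ.2, hδ⟩

theorem mem_of_le {i : Q} {X : P} {x : V} (hx : x ∈ S.E X) (hx0 : x ≠ 0) (h : ¬S.E X ≤ S.M i) :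
    x ∉ S.M i := fun hm => h (S.union i X x hx hm hx0)

/-- All maps with component graph between two components are proportional. -/
def Lin {F : Type*} [Field F] (Y : P) (χ : F ≃+ S.E Y) (X : P) : Prop :=
  ∀ φ φ₀, S.Graph X Y φ → S.Graph X Y φ₀ → φ₀ ≠ 0 →
    ∃ c : F, ∀ x, χ.symm (φ x) = c * χ.symm (φ₀ x)

theorem exists_field (Y : P) :
    ∃ (F : Type) (_ : Field F) (_ : Fintype F) (χ : F ≃+ S.E Y), ∀ X, X ≠ Y → S.Lin Y χ X := by
  classical
  haveI := S.two_points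
  obtain ⟨X, hXY⟩ := exists_ne Y
  obtain ⟨i, hYi, hXi⟩ := S.sep Y X hXY.symm
  obtain ⟨j, hXj, hYj⟩ := S.sep X Y hXY
  obtain ⟨A, hA, hAk, hAg, hAe⟩ := S.exists_shift_group Y i hYi
  obtain ⟨A', hA', hAk', hAg', hAe'⟩ := S.exists_shift_group X j hXj
  obtain ⟨x₀, hx₀, hx₀0⟩ := S.exists_ne_zero X
  obtain ⟨y₀, hy₀, hy₀0⟩ := S.exists_ne_zero Y
  have hnt : Nontrivial (S.E Y) := ⟨⟨y₀, hy₀⟩, 0, fun h => hy₀0 (congrArg Subtype.val h)⟩
  obtain ⟨δ₀, hδ₀, hδ₀x⟩ := hAe x₀ (S.mem_of_le hx₀ hx₀0 hXi) ⟨y₀, hy₀⟩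
  have hinjX : ∀ δ ∈ A, δ ≠ 0 → Function.Injective (δ.comp (S.E X).subtype) := by
    intro δ hδ hne
    refine (injective_iff_map_eq_zero _).2 fun x hx => ?_
    by_contra hx0
    exact hne ((hAk δ hδ).2 x (S.mem_of_le x.2 (fun h => hx0 (Subtype.ext h)) hXi) hx)
  have hδ₀0 : δ₀ ≠ 0 := fun h => hy₀0 (by
    have := congrArg Subtype.val hδ₀x; rw [h] at this; exact this.symm)
  let e₀ : S.E X ≃+ S.E Y := AddEquiv.ofBijective (δ₀.comp (S.E X).subtype)
    ((Nat.bijective_iff_injective_and_card _).2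
      ⟨hinjX δ₀ hδ₀ hδ₀0, (S.card_E X).trans (S.card_E Y).symm⟩)
  have he₀ : ∀ x : S.E X, e₀ x = δ₀ x := fun x => rfl
  let rS : (V →+ S.E Y) →+ AddMonoid.End (S.E Y) :=
    { toFun := fun δ => (δ.comp (S.E X).subtype).comp e₀.symm.toAddMonoidHom
      map_zero' := rfl
      map_add' := fun _ _ => rfl }
  let rL : (V →+ S.E X) →+ AddMonoid.End (S.E Y) :=
    { toFun := fun δ => e₀.toAddMonoidHom.comp (δ.comp (S.E Y).subtype)
      map_zero' := AddMonoidHom.ext fun _ => map_zero e₀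
      map_add' := fun f g => AddMonoidHom.ext fun _ => map_add e₀ _ _ }
  have hcardS : Nat.card (A.map rS) = S.q := by
    rw [← hA]
    refine (Nat.card_eq_of_bijective (fun δ : A => (⟨rS δ, δ.1, δ.2, rfl⟩ : A.map rS))
      ⟨fun δ δ' h => ?_, fun ⟨_, δ, hδ, rfl⟩ => ⟨⟨δ, hδ⟩, rfl⟩⟩).symm
    have h' := DFunLike.congr_fun (congrArg Subtype.val h) (e₀ ⟨x₀, hx₀⟩)
    simp only [rS, AddMonoidHom.coe_mk, ZeroHom.coe_mk] at h'
    change δ.1 (e₀.symm (e₀ ⟨x₀, hx₀⟩)) = δ'.1 (e₀.symm (e₀ ⟨x₀, hx₀⟩)) at h'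
    rw [e₀.symm_apply_apply] at h'
    exact Subtype.ext (sub_eq_zero.1 ((hAk _ (sub_mem δ.2 δ'.2)).2 x₀
      (S.mem_of_le hx₀ hx₀0 hXi) (sub_eq_zero.2 h')))
  have hcardL : Nat.card (A'.map rL) = S.q := by
    rw [← hA']
    refine (Nat.card_eq_of_bijective (fun δ : A' => (⟨rL δ, δ.1, δ.2, rfl⟩ : A'.map rL))
      ⟨fun δ δ' h => ?_, fun ⟨_, δ, hδ, rfl⟩ => ⟨⟨δ, hδ⟩, rfl⟩⟩).symm
    have h' : e₀ (δ.1 y₀) = e₀ (δ'.1 y₀) :=
      DFunLike.congr_fun (congrArg Subtype.val h) ⟨y₀, hy₀⟩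
    exact Subtype.ext (sub_eq_zero.1 ((hAk' _ (sub_mem δ.2 δ'.2)).2 y₀
      (S.mem_of_le hy₀ hy₀0 hYj) (sub_eq_zero.2 (e₀.injective h'))))
  have h1 : (1 : AddMonoid.End (S.E Y)) ∈ A.map rS :=
    ⟨δ₀, hδ₀, by ext y; exact congrArg Subtype.val (e₀.apply_symm_apply y)⟩
  have hLS : ∀ t ∈ A'.map rL, t ≠ 0 → ∃ s ∈ A.map rS, s * t = 1 := by
    rintro _ ⟨δ', hδ', rfl⟩ ht
    have hδ'0 : δ' ≠ 0 := fun h => ht (by rw [h, map_zero])
    let ψ : S.E Y ≃+ S.E X := AddEquiv.ofBijective (δ'.comp (S.E Y).subtype)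
      ((Nat.bijective_iff_injective_and_card _).2
        ⟨(injective_iff_map_eq_zero _).2 fun y hy => by_contra fun hy0 => hδ'0
          ((hAk' δ' hδ').2 y (S.mem_of_le y.2 (fun h => hy0 (Subtype.ext h)) hYj) hy),
          (S.card_E Y).trans (S.card_E X).symm⟩)
    have hg : S.Graph X Y ψ.symm.toAddMonoidHom := by
      obtain ⟨X', hX'⟩ := hAg' δ' hδ' Y
      refine ⟨X', fun x => ?_⟩
      have h := hX' (ψ.symm x)
      have e : δ' (ψ.symm x : V) = x := ψ.apply_symm_apply x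
      change ((ψ.symm x : S.E Y) : V) + ((δ' (ψ.symm x : V) : S.E X) : V) ∈ _ at h
      rw [e, add_comm] at h
      exact h
    obtain ⟨δ, hδ, hδx⟩ := hAe x₀ (S.mem_of_le hx₀ hx₀0 hXi) (ψ.symm ⟨x₀, hx₀⟩)
    have heq := S.graph_ext hXY (hAg δ hδ X) hg (x := ⟨x₀, hx₀⟩)
      (fun h => hx₀0 (congrArg Subtype.val h)) hδx
    refine ⟨rS δ, ⟨δ, hδ, rfl⟩, ?_⟩
    ext y
    change ((δ.comp (S.E X).subtype) (e₀.symm (e₀ (ψ y))) : V) = y
    rw [e₀.symm_apply_apply, heq]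
    exact congrArg Subtype.val (ψ.symm_apply_apply y)
  obtain ⟨r, hr, hexp⟩ := S.exponent
  haveI := Fact.mk hr
  obtain ⟨-, F, iF, iFt, χ, f, hχ⟩ := CfsgLib.Amalgam.Spread.exists_field (p := r)
    (X := S.E Y) (fun y => Subtype.ext (by rw [AddSubgroup.coe_nsmul]; exact hexp y))
    (A.map rS) (A'.map rL) h1 hLS (hcardL.trans hcardS.symm) (hcardS.trans (S.card_E Y).symm)
  refine ⟨F, iF, iFt, χ, ?_⟩
  -- proportionality through one subgroup
  have LinM : ∀ (Z : P) (k : Q), Z ≠ Y → S.E Y ≤ S.M k → ¬S.E Z ≤ S.M k → S.Lin Y χ Z →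
      ∀ W, W ≠ Y → ¬S.E W ≤ S.M k → S.Lin Y χ W := by
    intro Z k hZY hYk hZk hZ W hWY hWk φ φ₀ hφ hφ₀ hne
    obtain ⟨Ak, -, hk1, hk2, hk3⟩ := S.exists_shift_group Y k hYk
    obtain ⟨w, hw, hw0⟩ := S.exists_ne_zero W
    have hwk := S.mem_of_le hw hw0 hWk
    have hwne : (⟨w, hw⟩ : S.E W) ≠ 0 := fun h => hw0 (congrArg Subtype.val h)
    obtain ⟨δ, hδ, hδw⟩ := hk3 w hwk (φ ⟨w, hw⟩)
    obtain ⟨ε, hε, hεw⟩ := hk3 w hwk (φ₀ ⟨w, hw⟩)
    have e1 := S.graph_ext hWY (hk2 δ hδ W) hφ hwne hδw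
    have e2 := S.graph_ext hWY (hk2 ε hε W) hφ₀ hwne hεw
    have hε0 : ε ≠ 0 := fun h => hne (by rw [← e2, h]; rfl)
    have hinj : Function.Injective (ε.comp (S.E Z).subtype) :=
      (injective_iff_map_eq_zero _).2 fun z hz => by_contra fun hz0 => hε0
        ((hk1 ε hε).2 z (S.mem_of_le z.2 (fun h => hz0 (Subtype.ext h)) hZk) hz)
    have hbij := (Nat.bijective_iff_injective_and_card _).2
      ⟨hinj, (S.card_E Z).trans (S.card_E Y).symm⟩
    obtain ⟨z₁, hz₁, hz₁0⟩ := S.exists_ne_zero Z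
    obtain ⟨c, hc⟩ := hZ _ _ (hk2 δ hδ Z) (hk2 ε hε Z)
      (fun h => hz₁0 (congrArg Subtype.val (@hinj ⟨z₁, hz₁⟩ 0 (by rw [h]; rfl))))
    refine ⟨c, fun x => ?_⟩
    rw [← e1, ← e2]
    obtain ⟨z, hz⟩ := hbij.2 (ε x)
    have hm : (x : V) - z ∈ S.M k := by
      by_contra hm
      exact hε0 ((hk1 ε hε).2 _ hm (by
        rw [map_sub, sub_eq_zero]; exact hz.symm))
    have hd : δ x = δ (z : V) := by
      have := (hk1 δ hδ).1 _ hm
      rwa [map_sub, sub_eq_zero] at this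
    have hz' : ε (z : V) = ε x := hz
    have hcz := hc z
    simp only [AddMonoidHom.coe_comp, AddSubgroup.coe_subtype, Function.comp_apply] at hcz ⊢
    rw [hd, ← hz']
    exact hcz
  have hX : S.Lin Y χ X := by
    intro φ φ₀ hφ hφ₀ hne
    have hx : (⟨x₀, hx₀⟩ : S.E X) ≠ 0 := fun h => hx₀0 (congrArg Subtype.val h)
    have key : ∀ ψ, S.Graph X Y ψ → ∃ s : A.map rS, ∀ x,
        ψ x = (s : AddMonoid.End (S.E Y)) (e₀ x) := by
      intro ψ hψ
      obtain ⟨δ, hδ, hδx⟩ := hAe x₀ (S.mem_of_le hx₀ hx₀0 hXi) (ψ ⟨x₀, hx₀⟩)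
      refine ⟨⟨rS δ, δ, hδ, rfl⟩, fun x => ?_⟩
      rw [← S.graph_ext hXY (hAg δ hδ X) hψ hx hδx]
      change δ x = δ (e₀.symm (e₀ x) : V)
      rw [e₀.symm_apply_apply]
    obtain ⟨s, hs⟩ := key φ hφ
    obtain ⟨t, ht⟩ := key φ₀ hφ₀
    have hval : ∀ (u : A.map rS) (x : S.E X),
        χ.symm ((u : AddMonoid.End (S.E Y)) (e₀ x)) = f u * χ.symm (e₀ x) := fun u x => by
      conv_lhs => rw [← χ.apply_symm_apply (e₀ x)]
      rw [hχ, χ.symm_apply_apply]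
    refine ⟨f s * (f t)⁻¹, fun x => ?_⟩
    have hft : f t ≠ 0 := fun h => hne (by
      ext y
      rw [ht, ← χ.apply_symm_apply (e₀ y), hχ, h, zero_mul, map_zero]; rfl)
    rw [hs, ht, hval, hval, ← mul_assoc, inv_mul_cancel_right₀ hft]
  intro W hWY
  obtain ⟨k, hYk, hWk⟩ := S.sep Y W hWY.symm
  obtain ⟨v, hvi, hvk⟩ : ∃ v, v ∉ S.M i ∧ v ∉ S.M k := by
    by_contra! h
    obtain ⟨a, ha⟩ : ∃ a, a ∉ S.M k := by
      obtain ⟨w, hw, hw0⟩ := S.exists_ne_zero W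
      exact ⟨w, S.mem_of_le hw hw0 hWk⟩
    have hxi := S.mem_of_le hx₀ hx₀0 hXi
    have hai : a ∈ S.M i := by_contra fun h' => ha (h a h')
    have hxk := h x₀ hxi
    have hsum : a + x₀ ∉ S.M i := fun h' => hxi (by simpa using sub_mem h' hai)
    exact ha (by simpa using sub_mem (h _ hsum) hxk)
  obtain ⟨Z, hZ⟩ := S.cover v fun h => hvi (h ▸ zero_mem _)
  have hZY : Z ≠ Y := fun h => hvi (hYi (h ▸ hZ))
  exact LinM Z k hZY hYk (fun h => hvk (h hZ))
    (LinM X i hXY hYi hXi hX Z hZY fun h => hvi (h hZ)) W hWY hWk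

theorem exists_proj (Y : P) (i : Q) (hY : ¬S.E Y ≤ S.M i) :
    ∃ π : V →+ S.E Y, (∀ v, π v = 0 ↔ v ∈ S.M i) ∧ (∀ y : S.E Y, π y = y) ∧
      ∀ X, X ≠ Y → S.Graph X Y (-π.comp (S.E X).subtype) := by
  let j : S.M i × S.E Y →+ V := (S.M i).subtype.coprod (S.E Y).subtype
  have hj : Function.Bijective j := by
    refine (Nat.bijective_iff_injective_and_card _).2 ⟨(injective_iff_map_eq_zero _).2 ?_, ?_⟩
    · rintro ⟨m, y⟩ h
      have h' : (m : V) + y = 0 := h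
      have hy : (y : V) ∈ S.M i := by
        rw [eq_neg_of_add_eq_zero_right h']; exact neg_mem m.2
      have hy0 : y = 0 := Subtype.ext (by_contra fun hy0 => hY (S.union i Y y y.2 hy hy0))
      subst hy0
      refine Prod.ext (Subtype.ext ?_) rfl
      simpa using h'
    · rw [Nat.card_prod, S.card_E, S.card_M]
  let e := AddEquiv.ofBijective j hj
  refine ⟨(AddMonoidHom.snd _ _).comp e.symm.toAddMonoidHom, fun v => ⟨fun h => ?_, fun h => ?_⟩,
    fun y => ?_, fun X hX => ?_⟩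
  · rw [← e.apply_symm_apply v]
    rcases hmy : e.symm v with ⟨m, y⟩
    have : y = 0 := by
      have := h; simp only [AddMonoidHom.coe_comp, AddEquiv.coe_toAddMonoidHom,
        Function.comp_apply, hmy] at this
      exact this
    subst this
    show (m : V) + ((0 : S.E Y) : V) ∈ S.M i
    simpa using m.2
  · have : e.symm v = (⟨v, h⟩, 0) := e.symm_apply_eq.2 (by simp [e, j])
    show (e.symm v).2 = 0
    rw [this]
  · have : e.symm (y : V) = (0, y) := e.symm_apply_eq.2 (by simp [e, j])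
    show (e.symm (y : V)).2 = y
    rw [this]
  set π := (AddMonoidHom.snd _ _).comp e.symm.toAddMonoidHom with hπ
  have hsplit : ∀ v : V, v - π v ∈ S.M i := fun v => by
    have h1 : ((e.symm v).1 : V) + ((e.symm v).2 : V) = v := e.apply_symm_apply v
    have h2 : v - π v = (e.symm v).1 := sub_eq_of_eq_add h1.symm
    rw [h2]; exact (e.symm v).1.2
  have hπM : ∀ v ∈ S.M i, π v = 0 := fun v h => by
    have : e.symm v = (⟨v, h⟩, 0) := e.symm_apply_eq.2 (by simp [e, j])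
    simp [hπ, this]
  have hπY : ∀ y : S.E Y, π y = y := fun y => by
    have : e.symm (y : V) = (0, y) := e.symm_apply_eq.2 (by simp [e, j])
    simp [hπ, this]
  obtain ⟨x₀, hx₀, hx₀0⟩ := S.exists_ne_zero X
  have hne : x₀ - π x₀ ≠ 0 := fun h => hx₀0
    (S.disj X Y hX _ hx₀ (by rw [sub_eq_zero.1 h]; exact (π x₀).2))
  obtain ⟨X', hX'⟩ := S.cover _ hne
  have hXM : S.E X' ≤ S.M i := S.union i X' _ hX' (hsplit x₀) hne
  have hXs : S.E X' ≤ S.E X ⊔ S.E Y := S.span X Y X' _ hX hX' hne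
    (sub_mem (AddSubgroup.mem_sup_left hx₀) (AddSubgroup.mem_sup_right (π x₀).2))
  have hdec : ∀ x' : S.E X', ∃ a : S.E X, (x' : V) = a - π a := fun x' => by
    obtain ⟨a, ha, b, hb, hab⟩ := AddSubgroup.mem_sup.1 (hXs x'.2)
    refine ⟨⟨a, ha⟩, ?_⟩
    have h0 := hπM _ (hXM x'.2)
    rw [← hab, map_add, hπY ⟨b, hb⟩, add_eq_zero_iff_eq_neg] at h0
    rw [← hab, h0]
    show a + b = a - -b
    rw [sub_neg_eq_add]
  choose g hg using hdec
  have hgb : Function.Bijective g := (Nat.bijective_iff_injective_and_card _).2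
    ⟨fun a b h => Subtype.ext (by rw [hg a, hg b, h]), (S.card_E X').trans (S.card_E X).symm⟩
  refine ⟨X', fun x => ?_⟩
  obtain ⟨x', rfl⟩ := hgb.2 x
  have : (x' : V) = (g x' : V) + ((-π.comp (S.E X).subtype) (g x') : V) := by
    rw [hg x', sub_eq_add_neg]; rfl
  exact this ▸ x'.2

theorem exists_avoid {X Y : P} : ∃ i, ¬S.E Y ≤ S.M i ∧ ¬S.E X ≤ S.M i := by
  haveI := S.two_points
  by_cases hXY : X = Y
  · subst hXY
    obtain ⟨Z, hZ⟩ := exists_ne X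
    obtain ⟨i, -, hi⟩ := S.sep Z X hZ
    exact ⟨i, hi, hi⟩
  by_contra! h
  obtain ⟨x, hx, hx0⟩ := S.exists_ne_zero X
  obtain ⟨y, hy, hy0⟩ := S.exists_ne_zero Y
  have hs0 : x + y ≠ 0 := fun e => hx0 (S.disj X Y hXY x hx
    (by rw [eq_neg_of_add_eq_zero_left e]; exact neg_mem hy))
  obtain ⟨X', hX'⟩ := S.cover _ hs0
  have hne : X' ≠ Y := fun e => hx0 (S.disj X Y hXY x hx
    (by have := sub_mem (e ▸ hX') hy; simpa using this))
  obtain ⟨i, hi, hiY⟩ := S.sep X' Y hne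
  exact hiY (S.union i Y y hy (by
    have := sub_mem (hi hX') (h i hiY hx); simpa using this) hy0)

set_option maxHeartbeats 1600000 in
/-- Coordinates: the components are the lines and the subgroups `M` the hyperplanes. -/
theorem exists_coord [Finite P] [Finite Q] :
    ∃ (m : ℕ) (F : Type) (_ : Field F) (_ : Fintype F) (Ψ : V ≃+ (Fin m → F)),
      2 ≤ m ∧ Fintype.card F = S.q ∧
      (∀ p (v : V), v ∈ S.E p → v ≠ 0 → ∀ w, w ∈ S.E p ↔ ∃ c : F, Ψ w = c • Ψ v) ∧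
      (∀ i, ∃ a : Fin m → F, a ≠ 0 ∧ ∀ v, v ∈ S.M i ↔ a ⬝ᵥ Ψ v = 0) ∧
      ∀ a : Fin m → F, a ≠ 0 → ∃ i, ∀ v, v ∈ S.M i ↔ a ⬝ᵥ Ψ v = 0 := by
  classical
  haveI := S.two_points
  obtain ⟨Y⟩ : Nonempty P := inferInstance
  obtain ⟨F, iF, iFt, χ, hlin⟩ := S.exists_field Y
  have hqF : Fintype.card F = S.q := by
    rw [← Nat.card_eq_fintype_card, Nat.card_congr χ.toEquiv, S.card_E]
  let Q' := {i : Q // ¬S.E Y ≤ S.M i}
  choose π hπM hπY hπG using fun i : Q' => S.exists_proj Y i.1 i.2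
  let Ψ₀ : V →+ (Q' → F) := AddMonoidHom.mk' (fun v i => χ.symm (π i v))
    (fun v w => by funext i; simp)
  have hinj : Function.Injective Ψ₀ := (injective_iff_map_eq_zero _).2 fun v hv => by
    by_contra hv0
    obtain ⟨X, hX⟩ := S.cover v hv0
    obtain ⟨i, hiY, hiX⟩ := S.exists_avoid (X := X) (Y := Y)
    have : π ⟨i, hiY⟩ v = 0 := by
      have := congrFun hv ⟨i, hiY⟩
      simpa [Ψ₀] using this
    exact S.mem_of_le hX hv0 hiX ((hπM _ v).1 this)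
  -- on a component the coordinates are one scale times a fixed vector
  have hcomp : ∀ X, ∃ (η : S.E X → F) (κ : Q' → F), Function.Bijective η ∧
      ∀ x : S.E X, Ψ₀ (x : V) = η x • κ := by
    intro X
    by_cases hXY : X = Y
    · subst hXY
      refine ⟨fun x => χ.symm x, fun _ => 1, χ.symm.bijective, fun x => ?_⟩
      funext i
      simp [Ψ₀, hπY i x]
    obtain ⟨i₀, hi₀Y, hi₀X⟩ := S.exists_avoid (X := X) (Y := Y)
    let φ₀ : S.E X →+ S.E Y := -(π ⟨i₀, hi₀Y⟩).comp (S.E X).subtype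
    have hφinj : Function.Injective φ₀ := (injective_iff_map_eq_zero _).2 fun x hx =>
      by_contra fun hx0 => S.mem_of_le x.2 (fun h => hx0 (Subtype.ext h)) hi₀X
        ((hπM _ _).1 (neg_eq_zero.1 hx))
    obtain ⟨x₁, hx₁, hx₁0⟩ := S.exists_ne_zero X
    have hφ0 : φ₀ ≠ 0 := fun h => hx₁0
      (congrArg Subtype.val (@hφinj ⟨x₁, hx₁⟩ 0 (by rw [h]; rfl)))
    choose c hc using fun i : Q' => hlin X hXY _ _ (hπG i X hXY) (hπG ⟨i₀, hi₀Y⟩ X hXY) hφ0
    refine ⟨fun x => χ.symm (φ₀ x), fun i => -c i,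
      χ.symm.bijective.comp ((Nat.bijective_iff_injective_and_card _).2
        ⟨hφinj, (S.card_E X).trans (S.card_E Y).symm⟩), fun x => ?_⟩
    funext i
    have := hc i x
    simp only [AddMonoidHom.neg_apply, AddMonoidHom.coe_comp, AddSubgroup.coe_subtype,
      Function.comp_apply, map_neg] at this
    simp only [Ψ₀, AddMonoidHom.mk'_apply, Pi.smul_apply, smul_eq_mul, φ₀,
      AddMonoidHom.neg_apply, AddMonoidHom.coe_comp, AddSubgroup.coe_subtype,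
      Function.comp_apply, map_neg]
    rw [neg_eq_iff_eq_neg.1 this]; ring
  have hscale : ∀ (X : P) (v : V), v ∈ S.E X → ∀ r : F,
      ∃ w ∈ S.E X, Ψ₀ w = r • Ψ₀ v := fun X v hv r => by
    obtain ⟨η, κ, hη, hκ⟩ := hcomp X
    obtain ⟨w, hw⟩ := hη.2 (r * η ⟨v, hv⟩)
    exact ⟨w, w.2, by rw [hκ w, hκ ⟨v, hv⟩, hw, mul_smul]⟩
  let W : Submodule F (Q' → F) :=
    { carrier := Set.range Ψ₀
      add_mem' := by rintro _ _ ⟨a, rfl⟩ ⟨b, rfl⟩; exact ⟨a + b, map_add _ _ _⟩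
      zero_mem' := ⟨0, map_zero _⟩
      smul_mem' := by
        rintro r _ ⟨v, rfl⟩
        by_cases hv : v = 0
        · exact ⟨0, by simp [hv]⟩
        · obtain ⟨X, hX⟩ := S.cover v hv
          obtain ⟨w, -, hw⟩ := hscale X v hX r
          exact ⟨w, hw⟩ }
  let e : V ≃+ W := AddEquiv.ofBijective
    (AddMonoidHom.mk' (fun v => (⟨Ψ₀ v, v, rfl⟩ : W)) fun v w => Subtype.ext (map_add _ _ _))
    ⟨fun v w h => hinj (congrArg Subtype.val h), fun ⟨_, v, hv⟩ => ⟨v, Subtype.ext hv⟩⟩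
  let ℓ : W ≃ₗ[F] (Fin (Module.finrank F W) → F) :=
    (Module.finBasis F W).equivFun
  let Ψ : V ≃+ (Fin (Module.finrank F W) → F) := e.trans ℓ.toAddEquiv
  have hΨ : ∀ (v w : V) (c : F), Ψ w = c • Ψ v ↔ Ψ₀ w = c • Ψ₀ v := fun v w c => by
    show ℓ (e w) = c • ℓ (e v) ↔ _
    rw [← map_smul, ℓ.injective.eq_iff, Subtype.ext_iff]
    rfl
  have hline : ∀ p (v : V), v ∈ S.E p → v ≠ 0 → ∀ w, w ∈ S.E p ↔ ∃ c : F, Ψ w = c • Ψ v := by
    intro p v hv hv0 w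
    simp only [hΨ]
    obtain ⟨η, κ, hη, hκ⟩ := hcomp p
    refine ⟨fun hw => ⟨η ⟨w, hw⟩ / η ⟨v, hv⟩, ?_⟩, fun ⟨c, hc⟩ => ?_⟩
    · have hne : η ⟨v, hv⟩ ≠ 0 := fun h => hv0 (hinj (by rw [hκ ⟨v, hv⟩, h, zero_smul, map_zero]))
      rw [hκ ⟨w, hw⟩, hκ ⟨v, hv⟩, smul_smul, div_mul_cancel₀ _ hne]
    · obtain ⟨w', hw', he⟩ := hscale p v hv c
      rwa [hinj (hc.trans he.symm)]
  have hm : 2 ≤ Module.finrank F W := by
    obtain ⟨X, hX⟩ := exists_ne Y
    obtain ⟨x, hx, hx0⟩ := S.exists_ne_zero X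
    obtain ⟨y, hy, hy0⟩ := S.exists_ne_zero Y
    by_contra hlt
    have h1 : Module.finrank F (Fin (Module.finrank F W) → F) ≤ 1 := by
      rw [Module.finrank_fin_fun]; omega
    obtain ⟨u, hu⟩ := finrank_le_one_iff.1 h1
    obtain ⟨a, ha⟩ := hu (Ψ x)
    obtain ⟨b, hb⟩ := hu (Ψ y)
    have ha0 : a ≠ 0 := fun h => hx0 (Ψ.injective (by rw [← ha, h, zero_smul, map_zero]))
    refine hy0 (S.disj X Y hX y ((hline X x hx hx0 y).2 ⟨b / a, ?_⟩) hy)
    rw [← ha, ← hb, smul_smul, div_mul_cancel₀ _ ha0]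
  -- each `M` is the kernel of a functional
  have hM : ∀ i, ∃ a : Fin (Module.finrank F W) → F, a ≠ 0 ∧
      ∀ v, v ∈ S.M i ↔ a ⬝ᵥ Ψ v = 0 := by
    intro i
    let U : Submodule F (Fin (Module.finrank F W) → F) :=
      { carrier := Ψ '' (S.M i)
        add_mem' := by
          rintro _ _ ⟨a, ha, rfl⟩ ⟨b, hb, rfl⟩; exact ⟨a + b, add_mem ha hb, map_add _ _ _⟩
        zero_mem' := ⟨0, zero_mem _, map_zero _⟩
        smul_mem' := by
          rintro r _ ⟨v, hv, rfl⟩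
          by_cases hv0 : v = 0
          · exact ⟨0, zero_mem _, by simp [hv0]⟩
          · obtain ⟨X, hX⟩ := S.cover v hv0
            obtain ⟨w, hw, he⟩ := hscale X v hX r
            exact ⟨w, S.union i X v hX hv hv0 hw, (hΨ v w r).2 he⟩ }
    have hcU : Nat.card U * S.q = Nat.card (Fin (Module.finrank F W) → F) := by
      rw [← Nat.card_congr Ψ.toEquiv, ← S.card_M i,
        show Nat.card U = Nat.card (Ψ '' (S.M i : Set V) :) from rfl,
        Nat.card_image_of_injective Ψ.injective]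
      rfl
    have hU : U < ⊤ := lt_of_le_of_ne le_top fun h => by
      rw [h, Nat.card_congr (Equiv.subtypeUnivEquiv (fun _ => Submodule.mem_top))] at hcU
      have : 0 < Nat.card (Fin (Module.finrank F W) → F) := Nat.card_pos
      have := S.two_le_q
      nlinarith
    obtain ⟨f, hf0, hf⟩ := Submodule.exists_dual_map_eq_bot_of_lt_top hU inferInstance
    have hfs : Function.Surjective f := LinearMap.surjective hf0
    have hker : U = LinearMap.ker f := by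
      have hle : U ≤ LinearMap.ker f := LinearMap.le_ker_iff_map.2 hf
      apply SetLike.coe_injective
      refine Set.eq_of_subset_of_ncard_le hle ?_
      have hk := Submodule.card_eq_card_quotient_mul_card (LinearMap.ker f)
      rw [Nat.card_congr (f.quotKerEquivOfSurjective hfs).toEquiv,
        Nat.card_eq_fintype_card (α := F), hqF] at hk
      rw [← Nat.card_coe_set_eq, ← Nat.card_coe_set_eq]
      refine le_of_eq (Nat.eq_of_mul_eq_mul_right (m := S.q) (by have := S.two_le_q; omega) ?_)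
      exact (show Nat.card (LinearMap.ker f) * S.q = Nat.card U * S.q by
        linarith [mul_comm (Nat.card (LinearMap.ker f)) S.q])
    refine ⟨fun j => f (Pi.single j 1), fun h => hf0 ?_, fun v => ?_⟩
    · exact LinearMap.pi_ext fun j x => by
        have : Pi.single j x = x • Pi.single j (1 : F) := by simp [← Pi.single_smul]
        rw [this, map_smul, show f (Pi.single j 1) = 0 from congrFun h j, smul_zero]; rfl
    · have e1 : (fun j => f (Pi.single j 1)) ⬝ᵥ Ψ v = f (Ψ v) := by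
        conv_rhs => rw [pi_eq_sum_univ' (Ψ v), map_sum]
        exact Finset.sum_congr rfl fun j _ => by rw [map_smul, smul_eq_mul, mul_comm]
      rw [e1, ← LinearMap.mem_ker, ← hker]
      exact ⟨fun h => ⟨v, h, rfl⟩, fun ⟨w, hw, he⟩ => Ψ.injective he ▸ hw⟩
  refine ⟨_, F, iF, iFt, Ψ, hm, hqF, hline, hM, ?_⟩
  choose a ha0 ha using hM
  choose u hu hu0 using S.exists_ne_zero
  have hΨu : ∀ p, Ψ (u p) ≠ 0 := fun p h => hu0 p (Ψ.injective (h.trans (map_zero _).symm))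
  have hPbij : Function.Bijective
      (fun p => Projectivization.mk F (Ψ (u p)) (hΨu p) : P → ℙ F (Fin (Module.finrank F W) → F)) := by
    refine ⟨fun p p' h => ?_, fun z => ?_⟩
    · obtain ⟨c, hc⟩ := (Projectivization.mk_eq_mk_iff' ..).1 h
      exact S.eq_of_mem (hu p) ((hline p' (u p') (hu p') (hu0 p') _).2 ⟨c, hc.symm⟩) (hu0 p)
    · induction z using Projectivization.ind with | _ w hw => ?_
      have hv0 : Ψ.symm w ≠ 0 := fun h => hw (by rw [← Ψ.apply_symm_apply w, h, map_zero])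
      obtain ⟨p, hp⟩ := S.cover _ hv0
      refine ⟨p, ((Projectivization.mk_eq_mk_iff' ..).2 ?_).symm⟩
      obtain ⟨c, hc⟩ := (hline p (u p) (hu p) (hu0 p) _).1 hp
      exact ⟨c, by rw [← hc, Ψ.apply_symm_apply]⟩
  intro b hb
  have := Finite.of_surjective _ hPbij.2
  have hbij : Function.Bijective
      (fun i => Projectivization.mk F (a i) (ha0 i) : Q → ℙ F (Fin (Module.finrank F W) → F)) := by
    refine (Nat.bijective_iff_injective_and_card _).2 ⟨fun i i' h => ?_,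
      S.card_Q.trans (Nat.card_eq_of_bijective _ hPbij)⟩
    obtain ⟨c, hc⟩ := (Projectivization.mk_eq_mk_iff' ..).1 h
    refine S.inj (AddSubgroup.ext fun v => ?_)
    have hc0 : c ≠ 0 := by rintro rfl; exact ha0 i (by rw [← hc, zero_smul])
    rw [ha, ha, ← hc, smul_dotProduct, smul_eq_zero, or_iff_right hc0]
  obtain ⟨i, hi⟩ := hbij.2 (Projectivization.mk F b hb)
  obtain ⟨c, hc⟩ := (Projectivization.mk_eq_mk_iff' ..).1 hi
  have hc0 : c ≠ 0 := by rintro rfl; exact ha0 i (by rw [← hc, zero_smul])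
  exact ⟨i, fun v => by rw [ha, ← hc, smul_dotProduct, smul_eq_zero, or_iff_right hc0]⟩

end Spread

end CfsgLib.SymmDesign
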