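import Cfsg.Agent.Lib.Recog.SymmDesign.Translation
import Cfsg.Agent.Lib.Recog.SymmDesign.Spread

/-!
# Coordinates: the design is the point-hyperplane design of a projective space
-/

set_option autoImplicit false

open Finset
open scoped Pointwise LinearAlgebra.Projectivization Matrix

namespace CfsgLib.SymmDesign

/-- The hyperplane with coefficients `a` contains the point `z`. -/
def Inc {F : Type*} [Field F] {n : ℕ} (a : Fin n → F) (z : ℙ F (Fin n → F)) : Prop :=
  a ⬝ᵥ z.rep = 0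

theorem inc_mk {F : Type*} [Field F] {n : ℕ} (a v : Fin n → F) (hv : v ≠ 0) :
    Inc a (Projectivization.mk F v hv) ↔ a ⬝ᵥ v = 0 := by
  obtain ⟨c, hc⟩ := Projectivization.exists_smul_eq_mk_rep F v hv
  rw [Inc, ← hc, dotProduct_smul]
  exact ⟨fun h => (smul_eq_zero_iff_eq c).1 h, fun h => by rw [h, smul_zero]⟩

theorem dot_cons {F : Type*} [Field F] {n : ℕ} (s t : F) (a v : Fin n → F) :
    (Fin.cons s a : Fin (n + 1) → F) ⬝ᵥ (Fin.cons t v : Fin (n + 1) → F) = s * t + a ⬝ᵥ v := by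
  simp [dotProduct, Fin.sum_univ_succ]

variable {Ω : Type*} [Fintype Ω] [DecidableEq Ω] {D : Design Ω}
  {G : Type*} [Group G] [MulAction G Ω]

namespace Rich

variable [Finite G] (hR : Rich D G) {B : Finset Ω} (hB : B ∈ D.blocks)

/-- The additive group of elations with axis `B`. -/
abbrev V : Type _ := Additive (hR.T hB)

noncomputable instance instAddCommGroupV : AddCommGroup (hR.V hB) :=
  { (inferInstance : AddGroup (Additive (hR.T hB))) with
    add_comm := fun a b => Additive.toMul.injective (Subtype.ext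
      (hR.T_comm hB (Additive.toMul a).2 (Additive.toMul b).2)) }

/-- The element of `G` of an additive elation. -/
def el (v : hR.V hB) : G := (Additive.toMul v).1

/-- A subgroup of elations in additive notation. -/
def A (K : Subgroup G) : AddSubgroup (hR.V hB) where
  carrier := {v | hR.el hB v ∈ K}
  zero_mem' := one_mem K
  add_mem' := fun ha hb => K.mul_mem ha hb
  neg_mem' := fun ha => K.inv_mem ha

include hR hB

theorem el_add (v w : hR.V hB) : hR.el hB (v + w) = hR.el hB v * hR.el hB w := rfl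

theorem el_zero : hR.el hB 0 = 1 := rfl

theorem el_mem (v : hR.V hB) : hR.el hB v ∈ hR.T hB := (Additive.toMul v).2

theorem el_inj {v w : hR.V hB} (h : hR.el hB v = hR.el hB w) : v = w :=
  Additive.toMul.injective (Subtype.ext h)

theorem el_ne_one {v : hR.V hB} (hv : v ≠ 0) : hR.el hB v ≠ 1 := fun h =>
  hv (hR.el_inj hB (h.trans (hR.el_zero hB).symm))

theorem exists_el {g : G} (hg : g ∈ hR.T hB) : ∃ v, hR.el hB v = g :=
  ⟨Additive.ofMul ⟨g, hg⟩, rfl⟩

theorem mem_A {K : Subgroup G} {v : hR.V hB} : v ∈ hR.A hB K ↔ hR.el hB v ∈ K := Iff.rfl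

theorem card_A {K : Subgroup G} (hK : K ≤ hR.T hB) : Nat.card (hR.A hB K) = Nat.card K :=
  Nat.card_congr
    { toFun := fun v => ⟨hR.el hB v.1, v.2⟩
      invFun := fun g => ⟨Additive.ofMul ⟨g.1, hK g.2⟩, g.2⟩
      left_inv := fun _ => rfl
      right_inv := fun _ => rfl }

theorem card_E_all {q : ℕ} (hq : D.k = D.lam * q + 1) {C : Finset Ω} (hC : C ∈ D.blocks) {p : Ω}
    (hp : p ∈ C) : Nat.card (hR.E hC p) = q := by
  obtain ⟨q', -, hk, hE, -⟩ := hR.params hC
  rw [hE p hp]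
  exact Nat.eq_of_mul_eq_mul_left D.lam_pos (by omega)

/-- The points on the line through `x` and `y`. -/
def line (_hR : Rich D G) (x y : Ω) : Finset Ω := univ.filter fun z => ∀ C ∈ D.pair x y, z ∈ C

theorem card_line {q : ℕ} (hq : D.k = D.lam * q + 1) {p p' : Ω} (hp : p ∈ B) (hpp' : p ≠ p') :
    #(hR.line p p') = q + 1 := by
  classical
  obtain ⟨o, ho⟩ := Design.exists_not_mem hB
  have hpo : o ≠ p := fun h => ho (h ▸ hp)
  haveI := Fintype.ofFinite G
  have hline : hR.line o p = insert p ((univ.filter fun g : G => g ∈ hR.E hB p).image (· • o)) := by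
    ext z
    simp only [line, mem_filter, mem_univ, true_and, mem_insert, mem_image]
    refine ⟨fun hz => ?_, ?_⟩
    · by_cases hzp : z = p
      · exact Or.inl hzp
      have hsub : D.pair o p ⊆ D.pair p z := fun C hC => by
        obtain ⟨h1, h2, h3⟩ := Design.mem_pair.1 hC
        exact Design.mem_pair.2 ⟨h1, h3, hz C hC⟩
      have heq := eq_of_subset_of_card_le hsub (by
        rw [Design.card_pair' (Ne.symm hzp), Design.card_pair' hpo])
      have hzB : z ∉ B := fun h => ho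
        (Design.mem_pair.1 (heq ▸ Design.mem_pair.2 ⟨hB, hp, h⟩ : B ∈ D.pair o p)).2.1
      obtain ⟨⟨g, hgT⟩, hg, -⟩ := hR.regular hB ho hzB
      change g • o = z at hg
      by_cases hg1 : g = 1
      · exact Or.inr ⟨1, one_mem _, by rw [← hg, hg1]⟩
      obtain ⟨p', hp', hc, hgE⟩ := hR.center_of_T hB hgT hg1
      refine Or.inr ⟨g, ?_, hg⟩
      have hpair := hc.pair_eq hR.aut hB (hR.elation_of_T hB hgT hg1) hp' ho
      by_cases hpp : p' = p
      · exact hpp ▸ hgE
      have hsub' : D.pair o p ⊆ D.pair p p' := fun C hC => by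
        obtain ⟨h1, h2, h3⟩ := Design.mem_pair.1 hC
        have : C ∈ D.pair p' o := hpair ▸ Design.mem_pair.2 ⟨h1, h2, hg ▸ hz C hC⟩
        exact Design.mem_pair.2 ⟨h1, h3, (Design.mem_pair.1 this).2.1⟩
      have heq' := eq_of_subset_of_card_le hsub' (by
        rw [Design.card_pair' (Ne.symm hpp), Design.card_pair' hpo])
      exact absurd
        (Design.mem_pair.1 (heq' ▸ Design.mem_pair.2 ⟨hB, hp, hp'⟩ : B ∈ D.pair o p)).2.1 ho
    · rintro (rfl | ⟨g, hg, rfl⟩) C hC
      · exact (Design.mem_pair.1 hC).2.2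
      · obtain ⟨h1, h2, h3⟩ := Design.mem_pair.1 hC
        rw [← hg.2 C h1 h3]; exact smul_mem_smul_finset h2
  have h1 : #(hR.line o p) = q + 1 := by
    rw [hline, card_insert_of_notMem, card_image_of_injOn, ← hR.card_E_all hB hq hB hp,
      ← Nat.card_eq_finsetCard]
    · congr 1; exact Nat.card_congr (Equiv.subtypeEquivRight fun g => by simp)
    · intro g hg h hh e
      simp only [coe_filter, mem_univ, true_and, Set.mem_setOf_eq] at hg hh
      have hgo : g • o ∉ B := fun hm => ho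
        (smul_left_cancel g (hR.axial_of_T hB hg.1 _ hm) ▸ hm)
      exact congrArg Subtype.val ((hR.regular hB ho hgo).unique
        (y₁ := ⟨g, hg.1⟩) (y₂ := ⟨h, hh.1⟩) rfl e.symm)
    · simp only [mem_image, mem_filter, mem_univ, true_and, not_exists, not_and]
      intro g hg e
      exact hpo (smul_left_cancel g (e.trans (hR.axial_of_T hB hg.1 p hp).symm))
  obtain ⟨g, hg1, hg2⟩ := hR.two o p p p' hpo hpp'
  rw [← h1, ← card_smul_finset g (hR.line o p)]
  congr 1
  ext z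
  rw [← inv_smul_mem_iff]
  simp only [line, mem_filter, mem_univ, true_and]
  refine ⟨fun h C hC => ?_, fun h C hC => ?_⟩
  · exact inv_smul_mem_iff.2 (h (g • C) (by
      rw [← hg1, ← hg2, Design.smul_pair hR.aut]; exact hC))
  · have := h (g⁻¹ • C) (by
      rw [← Design.smul_pair hR.aut g, hg1, hg2, smul_inv_smul]; exact hC)
    exact (smul_mem_smul_finset_iff g⁻¹).1 this

theorem mem_block_iff {o : Ω} (ho : o ∉ B) {C : Finset Ω} (hC : C ∈ D.blocks) (hoC : o ∈ C)
    {x : Ω} (hx : x ∉ B) : x ∈ C ↔ ∃ g ∈ hR.M hB C, g • o = x := by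
  classical
  haveI := Fintype.ofFinite G
  have hne : C ≠ B := fun h => ho (h ▸ hoC)
  have hsub : (univ.filter fun g : G => g ∈ hR.M hB C).image (· • o) ⊆ C \ B := fun y hy => by
    obtain ⟨g, hg, rfl⟩ := mem_image.1 hy
    obtain ⟨hgT, hgC⟩ := (mem_filter.1 hg).2
    exact mem_sdiff.2 ⟨(show g • C = C from hgC) ▸ smul_mem_smul_finset hoC, fun hm => ho
      (smul_left_cancel g (hR.axial_of_T hB hgT _ hm) ▸ hm)⟩
  obtain ⟨q, -, -, -, -, -, hM⟩ := hR.params hB
  have heq := eq_of_subset_of_card_le hsub (by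
    rw [card_sdiff, inter_comm, D.card_block C hC, Design.inter_card hC hB hne, ← hM C hC hne,
      card_image_of_injOn, ← Nat.card_eq_finsetCard]
    · exact le_of_eq (Nat.card_congr (Equiv.subtypeEquivRight fun g => by simp))
    · intro g hg h hh e
      simp only [coe_filter, mem_univ, true_and, Set.mem_setOf_eq] at hg hh
      have hgo : g • o ∉ B := fun hm => ho
        (smul_left_cancel g (hR.axial_of_T hB hg.1 _ hm) ▸ hm)
      exact congrArg Subtype.val ((hR.regular hB ho hgo).unique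
        (y₁ := ⟨g, hg.1⟩) (y₂ := ⟨h, hh.1⟩) rfl e.symm))
  have := Finset.ext_iff.1 heq x
  simp only [mem_image, mem_filter, mem_univ, true_and, mem_sdiff] at this
  exact ⟨fun h => this.2 ⟨h, hx⟩, fun h => (this.1 h).1⟩

theorem mem_of_E_le {C : Finset Ω} (hC : C ∈ D.blocks) {p : Ω} (hp : p ∈ B)
    (h : hR.E hB p ≤ hR.M hB C) : p ∈ C := by
  obtain ⟨g, hg, hg1⟩ := hR.E_nontrivial hB hp
  exact hR.center_mem_of_M hB hC (h hg) hg1 hg

theorem A_mono {K L : Subgroup G} (h : K ≤ L) : hR.A hB K ≤ hR.A hB L := fun _ hv => h hv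

theorem le_of_A_le {K L : Subgroup G} (hK : K ≤ hR.T hB) (h : hR.A hB K ≤ hR.A hB L) : K ≤ L :=
  fun g hg => by
    obtain ⟨v, rfl⟩ := hR.exists_el hB (hK hg)
    exact h hg

/-- Commutators with an elation whose axis passes through the centre give a shift. -/
theorem exists_shift {q : ℕ} (hq : D.k = D.lam * q + 1) {C : Finset Ω} (hC : C ∈ D.blocks)
    (hne : C ≠ B) {p : Ω} (hpB : p ∈ B) (hpC : p ∈ C) :
    ∃ A : AddSubgroup (hR.V hB →+ hR.V hB), Nat.card A = q ∧ ∀ δ ∈ A,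
      (∀ v, δ v ∈ hR.A hB (hR.E hB p)) ∧ (∀ v ∈ hR.A hB (hR.M hB C), δ v = 0) ∧
      (∀ v, v ∉ hR.A hB (hR.M hB C) → δ v = 0 → δ = 0) ∧
      ∀ X : {x // x ∈ B}, ∃ X' : {x // x ∈ B}, ∀ v ∈ hR.A hB (hR.E hB X),
        v + δ v ∈ hR.A hB (hR.E hB X') := by
  classical
  have haB : ∀ a ∈ hR.E hC p, a • B = B := fun a ha => ha.2 B hB hpB
  have hcomm : ∀ a ∈ hR.E hC p, ∀ u ∈ hR.T hB, a * u * a⁻¹ * u⁻¹ ∈ hR.E hB p := fun a ha u hu => by
    refine ⟨mul_mem (hR.T_conj hB a (haB a ha) hu) (inv_mem hu), fun A hA hpA => ?_⟩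
    have h1 : p ∈ u • A := by
      rw [← hR.axial_of_T hB hu p hpB]; exact smul_mem_smul_finset hpA
    have h2 : p ∈ u⁻¹ • A := by
      rw [← hR.axial_of_T hB (inv_mem hu) p hpB]; exact smul_mem_smul_finset hpA
    rw [mul_smul, mul_smul, mul_smul, inv_smul_eq_iff.2 (ha.2 _ (hR.aut _ _ hA) h2).symm,
      smul_inv_smul, ha.2 A hA hpA]
  have hkill : ∀ a ∈ hR.E hC p, ∀ u ∈ hR.M hB C, a * u * a⁻¹ * u⁻¹ = 1 := fun a ha u hu => by
    have hb1 := hR.axial_of_T hB (hcomm a ha u hu.1).1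
    have hb2 : Axial (a * u * a⁻¹ * u⁻¹) C := fun x hx => by
      have hax := hR.axial_of_T hC ha.1
      have hux : ∀ y ∈ C, u⁻¹ • y ∈ C := fun y hy => by
        rw [← inv_smul_eq_iff.2 (show u • C = C from hu.2).symm]
        exact smul_mem_smul_finset hy
      rw [mul_smul, mul_smul, mul_smul, inv_smul_eq_iff.2 (hax _ (hux x hx)).symm,
        smul_inv_smul, hax x hx]
    by_contra hne1
    obtain ⟨x, hxC, hxB⟩ := Design.exists_mem_not_mem hC hB hne
    exact (hR.elation_of_T hB (hcomm a ha u hu.1).1 hne1).2 x hxB (hb2 x hxC)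
  choose d hd using fun (a : hR.E hC p) (v : hR.V hB) =>
    hR.exists_el hB (hcomm a.1 a.2 _ (hR.el_mem hB v)).1
  have hfix : ∀ (a : hR.E hC p) (b : G), b ∈ hR.E hB p → (a : G) * b = b * a := fun a b hb => by
    have := hkill a.1 a.2 b (hR.E_le_M hB hC hpC hb)
    rwa [mul_inv_eq_one, mul_inv_eq_iff_eq_mul] at this
  let δ : hR.E hC p → (hR.V hB →+ hR.V hB) := fun a => AddMonoidHom.mk' (d a) fun v w =>
    hR.el_inj hB (by
      rw [el_add, hd, hd, hd, el_add]
      have h1 := hR.T_comm hB (inv_mem (hR.el_mem hB w)) (inv_mem (hR.el_mem hB v))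
      have h2 := hR.T_comm hB (inv_mem (hR.el_mem hB v))
        (hR.T_conj hB a.1 (haB a.1 a.2) (hR.el_mem hB w))
      calc (a : G) * (hR.el hB v * hR.el hB w) * (a : G)⁻¹ * (hR.el hB v * hR.el hB w)⁻¹
          = a * hR.el hB v * (a : G)⁻¹ *
              (a * hR.el hB w * (a : G)⁻¹) * ((hR.el hB w)⁻¹ * (hR.el hB v)⁻¹) := by group
        _ = a * hR.el hB v * (a : G)⁻¹ *
              (a * hR.el hB w * (a : G)⁻¹ * (hR.el hB v)⁻¹) * (hR.el hB w)⁻¹ := by
            rw [h1.eq]; group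
        _ = _ := by rw [← h2.eq]; group)
  have hδ : ∀ a v, hR.el hB (δ a v) = a * hR.el hB v * (a : G)⁻¹ * (hR.el hB v)⁻¹ := hd
  let φ : Additive (hR.E hC p) →+ (hR.V hB →+ hR.V hB) := AddMonoidHom.mk'
    (fun a => δ (Additive.toMul a)) fun a b => AddMonoidHom.ext fun v => hR.el_inj hB (by
      rw [AddMonoidHom.add_apply, el_add, hδ, hδ, hδ]
      have h := hfix (Additive.toMul a) _ (hcomm _ (Additive.toMul b).2 _ (hR.el_mem hB v))
      have h2 : Commute _ _ := hR.T_comm hB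
        (hcomm _ (Additive.toMul a).2 _ (hR.el_mem hB v)).1
        (hcomm _ (Additive.toMul b).2 _ (hR.el_mem hB v)).1
      rw [toMul_add, Subgroup.coe_mul]
      generalize ((Additive.toMul a : hR.E hC p) : G) = x at h h2 ⊢
      generalize ((Additive.toMul b : hR.E hC p) : G) = y at h h2 ⊢
      generalize hR.el hB v = u at h h2 ⊢
      calc x * y * u * (x * y)⁻¹ * u⁻¹
          = x * (y * u * y⁻¹ * u⁻¹) * x⁻¹ * (x * u * x⁻¹ * u⁻¹) := by group
        _ = (y * u * y⁻¹ * u⁻¹) * (x * u * x⁻¹ * u⁻¹) := by rw [h]; group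
        _ = _ := h2.eq.symm)
  have hinj : ∀ (a : hR.E hC p) (v : hR.V hB), v ∉ hR.A hB (hR.M hB C) → δ a v = 0 → a = 1 := by
    intro a v hv h
    have h' := congrArg (hR.el hB) h
    rw [hδ, el_zero, mul_inv_eq_one, mul_inv_eq_iff_eq_mul] at h'
    by_contra ha1
    have hel := hR.elation_of_T hC a.2.1 fun e => ha1 (Subtype.ext e)
    have hconj := hel.conj (hR.el hB v)
    rw [show hR.el hB v * a * (hR.el hB v)⁻¹ = a by rw [← h', mul_inv_cancel_right]] at hconj
    refine hv ⟨hR.el_mem hB v, ?_⟩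
    refine eq_of_subset_of_card_le (fun x hx => ?_) (card_smul_finset _ C).ge
    by_contra hxC
    exact hel.2 x hxC (hconj.1 x hx)
  have hex : ∃ v, v ∉ hR.A hB (hR.M hB C) := by
    obtain ⟨x, hxB, hxC⟩ := Design.exists_mem_not_mem hB hC hne.symm
    obtain ⟨g, hg, hg1⟩ := hR.E_nontrivial hB hxB
    obtain ⟨v, rfl⟩ := hR.exists_el hB hg.1
    exact ⟨v, fun h => hxC (hR.center_mem_of_M hB hC h hg1 hg)⟩
  obtain ⟨v₀, hv₀⟩ := hex
  refine ⟨φ.range, ?_, ?_⟩
  · rw [← hR.card_E_all hB hq hC hpC]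
    refine (Nat.card_congr (AddMonoidHom.ofInjective (f := φ) ?_).toEquiv).symm.trans
      (Nat.card_congr Additive.toMul)
    exact (injective_iff_map_eq_zero φ).2 fun a ha =>
      Additive.toMul.injective (hinj _ v₀ hv₀ (DFunLike.congr_fun ha v₀))
  rintro _ ⟨a, rfl⟩
  refine ⟨fun v => ?_, fun v hv => ?_, fun v hv h => ?_, fun X => ?_⟩
  · show hR.el hB (δ (Additive.toMul a) v) ∈ hR.E hB p
    rw [hδ]; exact hcomm _ (Additive.toMul a).2 _ (hR.el_mem hB v)
  · exact hR.el_inj hB ((hδ _ v).trans (hkill _ (Additive.toMul a).2 _ hv))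
  · have := hinj _ v hv h
    rw [show a = 0 from Additive.toMul.injective this, map_zero]
  · refine ⟨⟨(Additive.toMul a : hR.E hC p).1 • X.1, ?_⟩, fun v hv => ?_⟩
    · have h := smul_mem_smul_finset (a := (Additive.toMul a : hR.E hC p).1) X.2
      rwa [haB _ (Additive.toMul a).2] at h
    show hR.el hB (v + δ (Additive.toMul a) v) ∈ hR.E hB _
    rw [el_add, hδ]
    have h2 := hR.E_conj hB _ (haB _ (Additive.toMul a).2) hv
    rw [hR.T_comm hB (hR.el_mem hB v) (hcomm _ (Additive.toMul a).2 _ (hR.el_mem hB v)).1,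
      inv_mul_cancel_right]
    exact h2

set_option maxHeartbeats 1600000 in
/-- The design is the point-hyperplane design of a projective space. -/
theorem exists_projective :
    ∃ (m : ℕ) (F : Type) (_ : Field F) (_ : Fintype F) (e : Ω ≃ ℙ F (Fin (m + 1) → F)),
      2 ≤ m ∧ (∀ C ∈ D.blocks, ∃ a : Fin (m + 1) → F, a ≠ 0 ∧ ∀ x, x ∈ C ↔ Inc a (e x)) ∧
      (∀ a : Fin (m + 1) → F, a ≠ 0 → ∃ C ∈ D.blocks, ∀ x, x ∈ C ↔ Inc a (e x)) ∧
      ∀ C, ∀ hC : C ∈ D.blocks, ∀ p ∈ C, Nat.card (hR.E hC p) = Fintype.card F := by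
  classical
  obtain ⟨q, hq2, hk, hE, hT, hTq, hM⟩ := hR.params hB
  obtain ⟨o, ho⟩ := Design.exists_not_mem hB
  let P := {p // p ∈ B}
  let Q := {C // C ∈ D.thru o}
  have hQne : ∀ C : Q, C.1 ≠ B := fun C h => ho (h ▸ (Design.mem_thru.1 C.2).2)
  have hQb : ∀ C : Q, C.1 ∈ D.blocks := fun C => (Design.mem_thru.1 C.2).1
  have hQo : ∀ C : Q, o ∈ C.1 := fun C => (Design.mem_thru.1 C.2).2
  have hPo : ∀ p : P, o ≠ p.1 := fun p h => ho (by rw [h]; exact p.2)
  have hunion : ∀ (C : Q) (p : P) (v : hR.V hB), v ∈ hR.A hB (hR.E hB p) →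
      v ∈ hR.A hB (hR.M hB C.1) → v ≠ 0 → hR.A hB (hR.E hB p) ≤ hR.A hB (hR.M hB C.1) :=
    fun C p v hv hv' hv0 => hR.A_mono hB (hR.E_le_M hB (hQb C)
      (hR.center_mem_of_M hB (hQb C) hv' (hR.el_ne_one hB hv0) hv))
  have hcardE : ∀ p : P, Nat.card (hR.A hB (hR.E hB p)) = q := fun p => by
    rw [hR.card_A hB (K := hR.E hB p) fun g hg => hg.1, hE p p.2]
  have hdisj : ∀ p p' : P, p ≠ p' → ∀ v : hR.V hB, v ∈ hR.A hB (hR.E hB p) →
      v ∈ hR.A hB (hR.E hB p') → v = 0 := fun p p' hne v h h' =>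
    hR.el_inj hB ((hR.E_disjoint hB h h' fun e => hne (Subtype.ext e)).trans (hR.el_zero hB).symm)
  let S : Spread (hR.V hB) P Q :=
    { q := q
      two_le_q := hq2
      two_points := Fintype.one_lt_card_iff_nontrivial.1 (by
        rw [Fintype.card_coe, D.card_block B hB]; exact D.two_le_k)
      exponent := by
        obtain ⟨r, hr, h⟩ := hR.exists_exponent hB
        exact ⟨r, hr, fun v => Additive.toMul.injective (Subtype.ext (h _ (hR.el_mem hB v)))⟩
      E := fun p => hR.A hB (hR.E hB p)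
      card_E := hcardE
      cover := fun v hv => by
        obtain ⟨p, hp, -, hvp⟩ := hR.center_of_T hB (hR.el_mem hB v) (hR.el_ne_one hB hv)
        exact ⟨⟨p, hp⟩, hvp⟩
      disj := hdisj
      span := by
        intro p p' p'' v hne hv hv0 hvs
        have hne' : p.1 ≠ p'.1 := fun h => hne (Subtype.ext h)
        have hLB : hR.line p.1 p'.1 ⊆ B := fun z hz =>
          (mem_filter.1 hz).2 B (Design.mem_pair.2 ⟨hB, p.2, p'.2⟩)
        let TL : Subgroup G :=
          hR.T hB ⊓ ⨅ C ∈ D.pair p.1 p'.1, MulAction.stabilizer G C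
        have hTL : ∀ g, g ∈ TL ↔ g ∈ hR.T hB ∧ ∀ C ∈ D.pair p.1 p'.1, g • C = C := fun g => by
          simp [TL, Subgroup.mem_iInf]
        have hEL : ∀ z ∈ hR.line p.1 p'.1, hR.E hB z ≤ TL := fun z hz g hg => (hTL g).2
          ⟨hg.1, fun C hC => hg.2 C (Design.mem_pair.1 hC).1 ((mem_filter.1 hz).2 C hC)⟩
        have hmemL : ∀ g ∈ TL, g ≠ 1 → ∀ z ∈ B, g ∈ hR.E hB z → z ∈ hR.line p.1 p'.1 :=
          fun g hg hg1 z _ hgz => mem_filter.2 ⟨mem_univ _, fun C hC =>
            (hR.center_of_E hB hgz hg1 C (Design.mem_pair.1 hC).1).1 (((hTL g).1 hg).2 C hC)⟩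
        have hcTL : Nat.card TL = q * q := by
          rw [hR.card_union hB hLB inf_le_left hmemL hEL hE, hR.card_line hB hk p.2 hne']
          obtain ⟨q', rfl⟩ := Nat.exists_eq_add_of_le (show 1 ≤ q by omega)
          rw [Nat.add_sub_cancel_left]; ring
        have hp1 : p.1 ∈ hR.line p.1 p'.1 :=
          mem_filter.2 ⟨mem_univ _, fun C hC => (Design.mem_pair.1 hC).2.1⟩
        have hp2 : p'.1 ∈ hR.line p.1 p'.1 :=
          mem_filter.2 ⟨mem_univ _, fun C hC => (Design.mem_pair.1 hC).2.2⟩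
        have hle : hR.A hB (hR.E hB p) ⊔ hR.A hB (hR.E hB p') ≤ hR.A hB TL :=
          sup_le (hR.A_mono hB (hEL _ hp1)) (hR.A_mono hB (hEL _ hp2))
        have heq : hR.A hB (hR.E hB p) ⊔ hR.A hB (hR.E hB p') = hR.A hB TL := by
          refine AddSubgroup.eq_of_le_of_card_ge hle ?_
          rw [hR.card_A hB (K := TL) inf_le_left, hcTL,
            show q * q = Nat.card (hR.A hB (hR.E hB p) × hR.A hB (hR.E hB p')) by
              rw [Nat.card_prod, hcardE, hcardE]]
          refine Nat.card_le_card_of_injective (fun z => ⟨z.1.1 + z.2.1,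
            add_mem (AddSubgroup.mem_sup_left z.1.2) (AddSubgroup.mem_sup_right z.2.2)⟩) ?_
          intro z w h
          have h' : (z.1.1 : hR.V hB) + z.2.1 = w.1.1 + w.2.1 := congrArg Subtype.val h
          have h'' : (z.1.1 : hR.V hB) - w.1.1 = w.2.1 - z.2.1 := by
            rw [sub_eq_sub_iff_add_eq_add, h', add_comm]
          have h0 := hdisj p p' hne _ (sub_mem z.1.2 w.1.2) (h'' ▸ sub_mem w.2.2 z.2.2)
          refine Prod.ext (Subtype.ext (sub_eq_zero.1 h0)) (Subtype.ext ?_)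
          rw [h0, eq_comm, sub_eq_zero] at h''
          exact h''.symm
        rw [heq] at hvs ⊢
        exact hR.A_mono hB (hEL _ (hmemL _ hvs (hR.el_ne_one hB hv0) _ p''.2 hv))
      M := fun C => hR.A hB (hR.M hB C.1)
      inj := fun C C' h => by
        have hMM : hR.M hB C.1 = hR.M hB C'.1 :=
          le_antisymm (hR.le_of_A_le hB inf_le_left h.le) (hR.le_of_A_le hB inf_le_left h.ge)
        refine Subtype.ext (Finset.ext fun x => ?_)
        by_cases hx : x ∈ B
        · exact ⟨fun h' => hR.mem_of_E_le hB (hQb C') hx (hMM ▸ hR.E_le_M hB (hQb C) h'),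
            fun h' => hR.mem_of_E_le hB (hQb C) hx (hMM ▸ hR.E_le_M hB (hQb C') h')⟩
        · rw [hR.mem_block_iff hB ho (hQb C) (hQo C) hx, hR.mem_block_iff hB ho (hQb C') (hQo C') hx,
            hMM]
      card_Q := by
        rw [Nat.card_eq_finsetCard, Nat.card_eq_finsetCard, Design.card_thru', D.card_block B hB]
      card_M := fun C => by
        rw [hR.card_A hB (K := hR.M hB C.1) inf_le_left, hM C.1 (hQb C) (hQne C), Nat.card_congr Additive.toMul, hTq,
          mul_comm]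
      union := hunion
      sep := fun p p' hne => by
        by_contra! h
        have hsub : D.pair o p.1 ⊆ D.pair p.1 p'.1 := fun C hC => by
          obtain ⟨h1, h2, h3⟩ := Design.mem_pair.1 hC
          have := h ⟨C, Design.mem_thru.2 ⟨h1, h2⟩⟩ (hR.A_mono hB (hR.E_le_M hB h1 h3))
          exact Design.mem_pair.2 ⟨h1, h3,
            hR.mem_of_E_le hB h1 p'.2 (hR.le_of_A_le hB (fun g hg => hg.1) this)⟩
        have heq := eq_of_subset_of_card_le hsub (by
          rw [Design.card_pair' (fun e => hne (Subtype.ext e)), Design.card_pair' (hPo p)])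
        exact ho (Design.mem_pair.1
          (heq ▸ Design.mem_pair.2 ⟨hB, p.2, p'.2⟩ : B ∈ D.pair o p.1)).2.1
      shift := fun p C h => hR.exists_shift hB hk (hQb C) (hQne C) p.2
        (hR.mem_of_E_le hB (hQb C) p.2 (hR.le_of_A_le hB (fun g hg => hg.1) h)) }
  obtain ⟨m, F, iF, iFt, Ψ, hm, hqF, hline, hhyp, -⟩ := S.exists_coord
  choose u hu hu0 using fun p : P => S.exists_ne_zero p
  choose w hw hwu using fun x : {x // x ∉ B} => hR.regular hB ho x.2
  let pr : Ω → ℙ F (Fin (m + 1) → F) := fun x =>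
    if hx : x ∈ B then
      Projectivization.mk F (Fin.cons 0 (Ψ (u ⟨x, hx⟩))) (fun h => hu0 ⟨x, hx⟩ (Ψ.injective (by
        rw [map_zero]; funext i; exact congrFun h i.succ)))
    else Projectivization.mk F (Fin.cons 1 (Ψ (Additive.ofMul (w ⟨x, hx⟩))))
      (fun h => one_ne_zero (congrFun h 0))
  have hinj : Function.Injective pr := by
    intro x y h
    simp only [pr] at h
    by_cases hx : x ∈ B <;> by_cases hy : y ∈ B
    · rw [dif_pos hx, dif_pos hy] at h
      obtain ⟨c, hc⟩ := (Projectivization.mk_eq_mk_iff' ..).1 h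
      have hc' : c • Ψ (u ⟨y, hy⟩) = Ψ (u ⟨x, hx⟩) := by
        funext i; simpa using congrFun hc i.succ
      have := (hline ⟨y, hy⟩ _ (hu ⟨y, hy⟩) (hu0 _) (u ⟨x, hx⟩)).2 ⟨c, hc'.symm⟩
      exact congrArg Subtype.val (S.eq_of_mem (hu ⟨x, hx⟩) this (hu0 _))
    · rw [dif_pos hx, dif_neg hy] at h
      obtain ⟨c, hc⟩ := (Projectivization.mk_eq_mk_iff' ..).1 h
      have hc0 : c = 0 := by simpa using congrFun hc 0
      refine absurd (Ψ.injective ?_) (hu0 ⟨x, hx⟩)
      funext i; simpa [hc0] using (congrFun hc i.succ).symm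
    · rw [dif_neg hx, dif_pos hy] at h
      obtain ⟨c, hc⟩ := (Projectivization.mk_eq_mk_iff' ..).1 h
      have := congrFun hc 0
      simp at this
    · rw [dif_neg hx, dif_neg hy] at h
      obtain ⟨c, hc⟩ := (Projectivization.mk_eq_mk_iff' ..).1 h
      have hc1 : c = 1 := by simpa using congrFun hc 0
      have e : Ψ (Additive.ofMul (w ⟨x, hx⟩)) = Ψ (Additive.ofMul (w ⟨y, hy⟩)) := by
        funext i; simpa [hc1] using (congrFun hc i.succ).symm
      have e' : w ⟨x, hx⟩ = w ⟨y, hy⟩ := Additive.ofMul.injective (Ψ.injective e)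
      exact (hw ⟨x, hx⟩).symm.trans (e' ▸ hw ⟨y, hy⟩)
  have hsurj : Function.Surjective pr := by
    intro z
    induction z using Projectivization.ind with | _ v hv => ?_
    by_cases h0 : v 0 = 0
    · have ht : Ψ.symm (Fin.tail v) ≠ 0 := fun h => hv (by
        have : Fin.tail v = 0 := by rw [← Ψ.apply_symm_apply (Fin.tail v), h, map_zero]
        rw [← Fin.cons_self_tail v, h0, this]; ext i; cases i using Fin.cases <;> simp)
      obtain ⟨p, hp⟩ := S.cover _ ht
      obtain ⟨c, hc⟩ := (hline p _ (hu p) (hu0 p) _).1 hp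
      refine ⟨p.1, ?_⟩
      simp only [pr, dif_pos p.2]
      refine ((Projectivization.mk_eq_mk_iff' ..).2 ⟨c, ?_⟩).symm
      rw [Ψ.apply_symm_apply] at hc
      rw [← Fin.cons_self_tail v, h0, hc]
      ext i; cases i using Fin.cases <;> simp
    · obtain ⟨g, hg⟩ : ∃ g : hR.V hB, Ψ g = (v 0)⁻¹ • Fin.tail v := ⟨Ψ.symm _, Ψ.apply_symm_apply _⟩
      have hgB : hR.el hB g • o ∉ B := fun hm => ho
        (smul_left_cancel _ (hR.axial_of_T hB (hR.el_mem hB g) _ hm) ▸ hm)
      refine ⟨hR.el hB g • o, ?_⟩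
      simp only [pr, dif_neg hgB]
      have e : Additive.ofMul (w ⟨_, hgB⟩) = g :=
        congrArg Additive.ofMul (hwu ⟨_, hgB⟩ (Additive.toMul g) rfl).symm
      refine ((Projectivization.mk_eq_mk_iff' ..).2 ⟨v 0, ?_⟩).symm
      rw [e, hg]
      ext i; cases i using Fin.cases with
      | zero => simp
      | succ i => simp [Fin.tail, h0]
  let e := Equiv.ofBijective pr ⟨hinj, hsurj⟩
  have he : ∀ x, e x = pr x := fun _ => rfl
  have hblock : ∀ C ∈ D.blocks, ∃ a : Fin (m + 1) → F, a ≠ 0 ∧ ∀ x, x ∈ C ↔ Inc a (e x) := by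
    intro C hC
    by_cases hCB : C = B
    · refine ⟨Fin.cons 1 0, fun h => one_ne_zero (congrFun h 0), fun x => ?_⟩
      simp only [he, pr]
      by_cases hx : x ∈ B
      · simp [dif_pos hx, inc_mk, dot_cons, hCB, hx]
      · simp [dif_neg hx, inc_mk, dot_cons, hCB, hx]
    obtain ⟨x₀, hx₀C, hx₀B⟩ := Design.exists_mem_not_mem hC hB hCB
    set g := Additive.ofMul (w ⟨x₀, hx₀B⟩) with hg
    have hgo : hR.el hB g • o = x₀ := hw ⟨x₀, hx₀B⟩
    have hoC : o ∈ (hR.el hB g)⁻¹ • C := by rw [mem_inv_smul_finset_iff, hgo]; exact hx₀C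
    have hC0 := hR.aut (hR.el hB g)⁻¹ C hC
    obtain ⟨a, ha0, ha⟩ := hhyp ⟨_, Design.mem_thru.2 ⟨hC0, hoC⟩⟩
    refine ⟨Fin.cons (-(a ⬝ᵥ Ψ g)) a, fun h => ha0 (funext fun i => congrFun h i.succ), fun x => ?_⟩
    simp only [he, pr]
    by_cases hx : x ∈ B
    · rw [dif_pos hx, inc_mk, dot_cons, mul_zero, zero_add, ← ha]
      have hxg := hR.axial_of_T hB (hR.el_mem hB g) x hx
      rw [show x ∈ C ↔ x ∈ (hR.el hB g)⁻¹ • C by rw [mem_inv_smul_finset_iff, hxg]]
      refine ⟨fun h => hR.E_le_M hB hC0 h (hu ⟨x, hx⟩), fun h => ?_⟩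
      exact hR.center_mem_of_M hB hC0 h (hR.el_ne_one hB (hu0 ⟨x, hx⟩)) (hu ⟨x, hx⟩)
    · rw [dif_neg hx, inc_mk, dot_cons, mul_one, neg_add_eq_sub, ← dotProduct_sub, ← map_sub, ← ha]
      have hgx : (hR.el hB g)⁻¹ • x ∉ B := fun hm => hx (by
        have := hR.axial_of_T hB (hR.el_mem hB g) _ hm
        rw [smul_inv_smul] at this; exact this ▸ hm)
      rw [show x ∈ C ↔ (hR.el hB g)⁻¹ • x ∈ (hR.el hB g)⁻¹ • C from
        (smul_mem_smul_finset_iff _).symm, hR.mem_block_iff hB ho hC0 hoC hgx]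
      have hel : hR.el hB (Additive.ofMul (w ⟨x, hx⟩) - g) • o = (hR.el hB g)⁻¹ • x := by
        rw [eq_inv_smul_iff, ← mul_smul, ← el_add, add_sub_cancel]
        exact hw ⟨x, hx⟩
      refine ⟨?_, fun h => ⟨_, h, hel⟩⟩
      rintro ⟨z, hz, hz'⟩
      obtain ⟨v, rfl⟩ := hR.exists_el hB hz.1
      have := (hR.regular hB ho hgx).unique (y₁ := Additive.toMul v)
        (y₂ := Additive.toMul (Additive.ofMul (w ⟨x, hx⟩) - g)) hz' hel
      rw [← Additive.toMul.injective this]
      exact hz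
  refine ⟨m, F, iF, iFt, e, hm, hblock, fun b hb => ?_, fun C hC p hp => ?_⟩
  · choose a ha0 ha using fun C : D.blocks => hblock C.1 C.2
    have : Fintype (ℙ F (Fin (m + 1) → F)) := Fintype.ofEquiv Ω e
    have hbij : Function.Bijective
        (fun C => Projectivization.mk F (a C) (ha0 C) : D.blocks → ℙ F (Fin (m + 1) → F)) := by
      refine (Fintype.bijective_iff_injective_and_card _).2 ⟨fun C C' h => ?_, by
        rw [Fintype.card_coe, D.card_blocks, Fintype.card_congr e]⟩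
      obtain ⟨c, hc⟩ := (Projectivization.mk_eq_mk_iff' ..).1 h
      have hc0 : c ≠ 0 := by rintro rfl; exact ha0 C (by rw [← hc, zero_smul])
      refine Subtype.ext (Finset.ext fun x => ?_)
      rw [ha, ha, ← hc, Inc, Inc, smul_dotProduct, smul_eq_zero, or_iff_right hc0]
    obtain ⟨C, hC⟩ := hbij.2 (Projectivization.mk F b hb)
    obtain ⟨c, hc⟩ := (Projectivization.mk_eq_mk_iff' ..).1 hC
    have hc0 : c ≠ 0 := by rintro rfl; exact ha0 C (by rw [← hc, zero_smul])
    exact ⟨C.1, C.2, fun x => by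
      rw [ha, ← hc, Inc, Inc, smul_dotProduct, smul_eq_zero, or_iff_right hc0]⟩
  · rw [hR.card_E_all hB hk hC hp]; exact hqF.symm

end Rich

end CfsgLib.SymmDesign
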