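import Cfsg.Agent.Lib.Recog.SymmDesign.Setup
import Cfsg.Agent.Lib.Recog.SymmDesign.Coord
import Cfsg.Agent.Lib.Classical.SLGen
import Mathlib.LinearAlgebra.Projectivization.Action
import Mathlib.LinearAlgebra.Projectivization.Cardinality

/-!
# The elations generate a normal subgroup `PSL`
-/

set_option autoImplicit false

open Finset
open scoped Pointwise LinearAlgebra.Projectivization Matrix

namespace CfsgLib.SymmDesign

variable {F : Type} [Field F] {n : ℕ}

/-- The transvection `v ↦ v + (a ⬝ v) w`. -/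
def transv (w a : Fin n → F) (h : a ⬝ᵥ w = 0) : Matrix.SpecialLinearGroup (Fin n) F :=
  ⟨1 + Matrix.vecMulVec w a, by
    rw [Matrix.vecMulVec_eq Unit, Matrix.det_one_add_replicateCol_mul_replicateRow, h, add_zero]⟩

theorem transv_smul (w a : Fin n → F) (h : a ⬝ᵥ w = 0) (v : Fin n → F) :
    transv w a h • v = v + (a ⬝ᵥ v) • w := by
  rw [Matrix.SpecialLinearGroup.smul_def]
  show (1 + Matrix.vecMulVec w a) *ᵥ v = _
  rw [Matrix.add_mulVec, Matrix.one_mulVec, Matrix.vecMulVec_mulVec]
  ext i; simp [mul_comm]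

theorem transv_ne {w a v : Fin n → F} (h : a ⬝ᵥ w = 0) (hv : v ≠ 0) :
    v + (a ⬝ᵥ v) • w ≠ 0 := fun e => hv (by
  have h1 := congrArg (fun u => a ⬝ᵥ u) e
  simp only [dotProduct_add, dotProduct_smul, h, smul_zero, add_zero, dotProduct_zero] at h1
  rwa [h1, zero_smul, add_zero] at e)

theorem transv_smul_mk {w a v : Fin n → F} (h : a ⬝ᵥ w = 0) (hv : v ≠ 0) :
    transv w a h • Projectivization.mk F v hv =
      Projectivization.mk F (v + (a ⬝ᵥ v) • w) (transv_ne h hv) := by
  rw [Projectivization.smul_mk]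
  simp only [transv_smul]

theorem smul_mem_image {Ω : Type*} [DecidableEq Ω] (σ : Equiv.Perm Ω) (C : Finset Ω) (x : Ω) :
    x ∈ σ • C ↔ σ⁻¹ x ∈ C := inv_smul_mem_iff.symm

/-- The conclusion of the recognition. -/
theorem exists_psl {G Ω : Type*} [Group G] [Finite G] [MulAction G Ω] [FaithfulSMul G Ω]
    [Fintype Ω] [DecidableEq Ω] {D : Design Ω} (hR : Rich D G) :
    ∃ (m : ℕ) (F : Type) (_ : Field F) (_ : Fintype F), 2 ≤ m ∧
      Nat.card Ω = (Fintype.card F ^ (m + 1) - 1) / (Fintype.card F - 1) ∧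
      ∃ N : Subgroup G, N.Normal ∧
        Nonempty (N ≃* Matrix.ProjectiveSpecialLinearGroup (Fin (m + 1)) F) ∧
        Subgroup.centralizer (N : Set G) = ⊥ := by
  classical
  obtain ⟨B₀, hB₀⟩ : D.blocks.Nonempty :=
    card_pos.1 (by rw [D.card_blocks]; have := D.k_add_two_le; omega)
  obtain ⟨m, F, iF, iFt, e, hm, hhyp, hhyp', hcardE⟩ := hR.exists_projective hB₀
  refine ⟨m, F, iF, iFt, hm, ?_, ?_⟩
  · rw [Nat.card_congr e, Projectivization.card'', Nat.card_fun, Nat.card_eq_fintype_card,
      Nat.card_eq_fintype_card, Fintype.card_fin]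
  let θ : Matrix.SpecialLinearGroup (Fin (m + 1)) F →* Equiv.Perm Ω :=
    e.symm.permCongrHom.toMonoidHom.comp (MulAction.toPermHom _ _)
  have hθ : ∀ g x, e (θ g x) = g • e x := fun g x => e.apply_symm_apply _
  let θP : Matrix.ProjectiveSpecialLinearGroup (Fin (m + 1)) F →* Equiv.Perm Ω :=
    e.symm.permCongrHom.toMonoidHom.comp (Projectivization.PSLAction.toPermHom)
  have hθP : Function.Injective θP :=
    e.symm.permCongrHom.injective.comp Matrix.ProjectiveSpecialLinearGroup.toPermHom_injective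
  have hθPr : θP.range = θ.range := by
    ext σ
    constructor
    · rintro ⟨z, rfl⟩
      induction z using QuotientGroup.induction_on with | _ g => exact ⟨g, rfl⟩
    · rintro ⟨g, rfl⟩; exact ⟨QuotientGroup.mk g, rfl⟩
  let ρ : G →* Equiv.Perm Ω := MulAction.toPermHom G Ω
  have hρ : Function.Injective ρ := MulAction.toPerm_injective
  -- all automorphisms of the design
  let Γ : Subgroup (Equiv.Perm Ω) := MulAction.stabilizer (Equiv.Perm Ω) D.blocks
  have hΓ : D.IsAut Γ := fun σ B hB => by
    have h : (σ : Equiv.Perm Ω) • D.blocks = D.blocks := σ.2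
    exact (Finset.ext_iff.1 h _).1 (smul_mem_smul_finset hB)
  have hmemΓ : ∀ σ : Equiv.Perm Ω, (∀ B ∈ D.blocks, σ • B ∈ D.blocks) → σ ∈ Γ := fun σ hσ =>
    MulAction.mem_stabilizer_iff.2 (eq_of_subset_of_card_le
      (fun B hB => by obtain ⟨A, hA, rfl⟩ := mem_smul_finset.1 hB; exact hσ A hA)
      (card_smul_finset σ _).ge)
  have hρΓ : ∀ g : G, ρ g ∈ Γ := fun g => hmemΓ _ fun B hB => by
    rw [show ρ g • B = g • B by ext x; simp [mem_smul_finset, ρ]]
    exact hR.aut g B hB
  have hθΓ : ∀ g, θ g ∈ Γ := fun g => hmemΓ _ fun B hB => by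
    obtain ⟨a, ha0, ha⟩ := hhyp B hB
    let b : Fin (m + 1) → F := Matrix.vecMul a (g⁻¹ : Matrix.SpecialLinearGroup (Fin (m + 1)) F).1
    have hb : ∀ v : Fin (m + 1) → F, b ⬝ᵥ v = a ⬝ᵥ (g⁻¹ • v) := fun v => by
      rw [Matrix.SpecialLinearGroup.smul_def]
      exact (Matrix.dotProduct_mulVec _ _ _).symm
    have hb0 : b ≠ 0 := fun h => ha0 (funext fun i => by
      have := hb (g • Pi.single i 1)
      rw [h, inv_smul_smul, zero_dotProduct] at this
      simpa using this.symm)
    obtain ⟨C, hC, hC'⟩ := hhyp' b hb0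
    have : θ g • B = C := Finset.ext fun x => by
      rw [smul_mem_image, ← map_inv, ha, hC', hθ]
      induction e x using Projectivization.ind with | _ v hv => ?_
      rw [Projectivization.smul_mk, inc_mk, inc_mk, hb]
    rw [this]; exact hC
  -- an automorphism with given axis and centre is determined by one further point
  have uniq : ∀ (C : Finset Ω), C ∈ D.blocks → ∀ p ∈ C, ∀ y, y ∉ C → ∀ σ τ : Equiv.Perm Ω,
      σ ∈ Γ → τ ∈ Γ → (∀ x ∈ C, σ x = x) → (∀ x ∈ C, τ x = x) →
      (∀ A ∈ D.blocks, p ∈ A → σ • A = A) → (∀ A ∈ D.blocks, p ∈ A → τ • A = A) →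
      σ y = τ y → σ = τ := by
    intro C hC p hp y hy σ τ hσ hτ hσC hτC hσp hτp hy'
    have hax : Axial (G := Γ) (⟨τ, hτ⟩⁻¹ * ⟨σ, hσ⟩ : Γ) C := fun x hx => by
      show τ⁻¹ (σ x) = x
      rw [hσC x hx, Equiv.Perm.inv_eq_iff_eq, hτC x hx]
    have h := Axial.trivial_of_center hΓ hC hax (p := p) (y := y) hp (by
      show τ⁻¹ (σ y) = y
      rw [Equiv.Perm.inv_eq_iff_eq, hy']) hy fun A hA hpA => by
      show (τ⁻¹ * σ) • A = A
      rw [mul_smul, hσp A hA hpA, inv_smul_eq_iff, hτp A hA hpA]
    ext x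
    exact Equiv.Perm.inv_eq_iff_eq.1 (h x)
  have hrep : ∀ x, ∃ u hu, e x = Projectivization.mk F u hu := fun x =>
    ⟨(e x).rep, Projectivization.rep_nonzero _, (Projectivization.mk_rep _).symm⟩
  -- each elation is a transvection and conversely
  have key : ∀ (C : Finset Ω) (hC : C ∈ D.blocks) (p : Ω), p ∈ C → ∀ (a w : Fin (m + 1) → F)
      (h : a ⬝ᵥ w = 0) (hw : w ≠ 0), (∀ x, x ∈ C ↔ Inc a (e x)) →
      e p = Projectivization.mk F w hw →
      (∀ g ∈ hR.E hC p, ρ g ∈ θ.range) ∧ ∃ g ∈ hR.E hC p, ρ g = θ (transv w a h) := by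
    intro C hC p hp a w h hw haC hep
    obtain ⟨y, hy⟩ := Design.exists_not_mem hC
    obtain ⟨v, hv, hev⟩ : ∃ v hv, e y = Projectivization.mk F v hv :=
      ⟨(e y).rep, Projectivization.rep_nonzero _, (Projectivization.mk_rep _).symm⟩
    have hav : a ⬝ᵥ v ≠ 0 := fun h0 => hy ((haC y).2 (by rw [hev, inc_mk]; exact h0))
    have htw : ∀ c : F, a ⬝ᵥ (c • w) = 0 := fun c => by rw [dotProduct_smul, h, smul_zero]
    have hτ : ∀ c : F, (∀ x ∈ C, θ (transv (c • w) a (htw c)) x = x) ∧
        ∀ A ∈ D.blocks, p ∈ A → θ (transv (c • w) a (htw c)) • A = A := by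
      refine fun c => ⟨fun x hx => e.injective ?_, fun A hA hpA => ?_⟩
      · rw [hθ]
        have hx' := (haC x).1 hx
        obtain ⟨u, hu, hux⟩ := hrep x
        rw [hux, inc_mk] at hx'
        rw [hux, transv_smul_mk]
        simp [hx']
      · obtain ⟨b, -, hb⟩ := hhyp A hA
        have hbw : b ⬝ᵥ w = 0 := by
          have := (hb p).1 hpA
          rwa [hep, inc_mk] at this
        refine eq_of_subset_of_card_le (fun x hx => ?_) (card_smul_finset _ A).ge
        obtain ⟨z, hz, rfl⟩ := mem_smul_finset.1 hx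
        rw [hb] at hz ⊢
        show Inc b (e (θ _ z))
        rw [hθ]
        obtain ⟨u, hu, huz⟩ := hrep z
        rw [huz, inc_mk] at hz
        rw [huz, transv_smul_mk, inc_mk, dotProduct_add, dotProduct_smul, dotProduct_smul, hbw, hz]
        simp
    have main : ∀ g ∈ hR.E hC p, ∃ c : F, ρ g = θ (transv (c • w) a (htw c)) := by
      intro g hg
      have hgC : ∀ x ∈ C, ρ g x = x := fun x hx => hR.axial_of_T hC hg.1 x hx
      obtain ⟨v', hv', hev'⟩ : ∃ v' hv', e (g • y) = Projectivization.mk F v' hv' :=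
        ⟨(e (g • y)).rep, Projectivization.rep_nonzero _, (Projectivization.mk_rep _).symm⟩
      have hspan : v' ∈ Submodule.span F ({w, v} : Set (Fin (m + 1) → F)) := by
        by_contra hns
        obtain ⟨f, hf, hfS⟩ := Submodule.exists_dual_map_eq_bot_of_notMem hns inferInstance
        have hfw : ∀ u ∈ ({w, v} : Set (Fin (m + 1) → F)), f u = 0 := fun u hu =>
          (Submodule.mem_bot F).1 (hfS ▸ Submodule.mem_map_of_mem (Submodule.subset_span hu))
        let b : Fin (m + 1) → F := fun j => f (Pi.single j 1)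
        have hbf : ∀ u, b ⬝ᵥ u = f u := fun u => by
          conv_rhs => rw [pi_eq_sum_univ' u, map_sum]
          exact Finset.sum_congr rfl fun j _ => by rw [map_smul, smul_eq_mul, mul_comm]
        obtain ⟨A, hA, hA'⟩ := hhyp' b (fun h0 => hf (by rw [← hbf, h0, zero_dotProduct]))
        have hpA : p ∈ A := (hA' p).2 (by rw [hep, inc_mk, hbf]; exact hfw w (by simp))
        have hyA : y ∈ A := (hA' y).2 (by rw [hev, inc_mk, hbf]; exact hfw v (by simp))
        have hgy : g • y ∈ A := hg.2 A hA hpA ▸ smul_mem_smul_finset hyA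
        rw [hA', hev', inc_mk, hbf] at hgy
        exact hf hgy
      obtain ⟨α, β, hαβ⟩ := Submodule.mem_span_pair.1 hspan
      have hβ : β ≠ 0 := by
        rintro rfl
        rw [zero_smul, add_zero] at hαβ
        have : g • y = p := e.injective (by
          rw [hev', hep, Projectivization.mk_eq_mk_iff']; exact ⟨α, hαβ⟩)
        exact hy (smul_left_cancel g (this.trans (hgC p hp).symm) ▸ hp)
      refine ⟨α / (β * (a ⬝ᵥ v)), uniq C hC p hp y hy _ _ (hρΓ g) (hθΓ _) hgC (hτ _).1
        (fun A hA hpA => ?_) (hτ _).2 (e.injective ?_)⟩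
      · exact (Finset.ext fun x => by simp [mem_smul_finset, ρ] : ρ g • A = g • A).trans
          (hg.2 A hA hpA)
      · rw [hθ, hev, transv_smul_mk, show e (ρ g y) = e (g • y) from rfl, hev',
          Projectivization.mk_eq_mk_iff']
        refine ⟨β, ?_⟩
        rw [← hαβ, smul_add, smul_smul, smul_smul, add_comm (α • w)]
        congr 2
        field_simp
    refine ⟨fun g hg => ?_, ?_⟩
    · obtain ⟨c, hc⟩ := main g hg; exact ⟨_, hc.symm⟩
    choose c hc using fun g : hR.E hC p => main g.1 g.2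
    have hbij : Function.Bijective c := (Nat.bijective_iff_injective_and_card _).2
      ⟨fun g g' hgg => Subtype.ext (hρ (by rw [hc g, hc g']; simp only [hgg])),
        by rw [hcardE C hC p hp, Nat.card_eq_fintype_card]⟩
    obtain ⟨g, hg⟩ := hbij.2 1
    exact ⟨g.1, g.2, (hc g).trans (by simp only [hg, one_smul])⟩
  let s : Set G := {g | ∃ C ∈ D.blocks, IsElation g C}
  refine ⟨Subgroup.closure s, ?_, ?_, ?_⟩
  · have hs : ∀ g ∈ s, ∀ h : G, h * g * h⁻¹ ∈ s := fun g ⟨C, hC, hgC⟩ h =>
      ⟨h • C, hR.aut h C hC, hgC.conj h⟩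
    refine ⟨fun g hg h => ?_⟩
    induction hg using Subgroup.closure_induction with
    | mem x hx => exact Subgroup.subset_closure (hs x hx h)
    | one => simp
    | mul x y _ _ ihx ihy => simpa [mul_assoc] using mul_mem ihx ihy
    | inv x _ ih => simpa [mul_assoc] using inv_mem ih
  · have hrange : (Subgroup.closure s).map ρ = θ.range := by
      refine le_antisymm ?_ ?_
      · rw [Subgroup.map_le_iff_le_comap, Subgroup.closure_le]
        rintro g ⟨C, hC, hgC⟩
        obtain ⟨p, hp, -, hpE⟩ := hR.center_of_T hC (Or.inr hgC) (hgC.ne_one hC)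
        obtain ⟨a, -, ha⟩ := hhyp C hC
        have hw : (e p).rep ≠ 0 := Projectivization.rep_nonzero _
        exact (key C hC p hp a (e p).rep ((ha p).1 hp) hw ha
          (Projectivization.mk_rep _).symm).1 g hpE
      · have htop : ((Subgroup.closure s).map ρ).comap θ = ⊤ :=
          CfsgLib.Classical.sl_transvection_induction _ fun i j hij c => by
            by_cases hc : c = 0
            · rw [hc, Matrix.SpecialLinearGroup.transvection_coeff_zero hij]
              exact one_mem _
            have hw : (Pi.single i c : Fin (m + 1) → F) ≠ 0 := by simpa using hc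
            have h : (Pi.single j 1 : Fin (m + 1) → F) ⬝ᵥ Pi.single i c = 0 := by
              simp [Pi.single_eq_of_ne hij]
            obtain ⟨C, hC, hC'⟩ := hhyp' (Pi.single j 1) (by simp)
            set p := e.symm (Projectivization.mk F _ hw) with hpdef
            have hp : p ∈ C := (hC' p).2 (by rw [hpdef, e.apply_symm_apply, inc_mk]; exact h)
            obtain ⟨g, hg, hgθ⟩ := (key C hC p hp _ _ h hw hC' (e.apply_symm_apply _)).2
            have heq : transv (Pi.single i c) (Pi.single j 1) h =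
                Matrix.SpecialLinearGroup.transvection hij c := by
              refine CfsgLib.Classical.sl_ext_smul fun u => funext fun l => ?_
              rw [transv_smul, CfsgLib.Classical.transvection_smul_apply]
              by_cases hl : l = i
              · subst hl; simp [mul_comm]
              · simp [hl]
            refine Subgroup.mem_comap.2 ?_
            rw [← heq]
            refine ⟨g, ?_, hgθ⟩
            by_cases hg1 : g = 1
            · rw [hg1]; exact one_mem _
            · exact Subgroup.subset_closure ⟨C, hC, hR.elation_of_T hC hg.1 hg1⟩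
        rintro _ ⟨g, rfl⟩
        have hg : g ∈ ((Subgroup.closure s).map ρ).comap θ := htop ▸ Subgroup.mem_top g
        exact hg
    exact ⟨((Subgroup.closure s).equivMapOfInjective ρ hρ).trans
      ((MulEquiv.subgroupCongr (hrange.trans hθPr.symm)).trans (MonoidHom.ofInjective hθP).symm)⟩
  · refine (Subgroup.eq_bot_iff_forall _).2 fun g hg => hR.faithful g fun x => ?_
    obtain ⟨C, hC⟩ : (D.thru x).Nonempty :=
      card_pos.1 (by rw [Design.card_thru']; have := D.two_le_k; omega)
    obtain ⟨hC, hxC⟩ := Design.mem_thru.1 hC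
    obtain ⟨u, hu, hu1⟩ := hR.E_nontrivial hC hxC
    have hc := hR.center_of_E hC hu hu1
    have hmem : u ∈ Subgroup.closure s :=
      Subgroup.subset_closure ⟨C, hC, hR.elation_of_T hC hu.1 hu1⟩
    have h1 := Subgroup.mem_centralizer_iff.1 hg u hmem
    have h2 := IsCenter.conj hR.aut g hc
    rw [show g * u * g⁻¹ = u by rw [← h1, mul_inv_cancel_right]] at h2
    exact h2.unique hc

end CfsgLib.SymmDesign
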