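import Cfsg.Agent.Lib.Recog.SymmDesign.Basic
import Mathlib.GroupTheory.GroupAction.FixingSubgroup

/-!
# Axial automorphisms of a symmetric design: elations and their centres
-/

set_option autoImplicit false

open Finset
open scoped Pointwise

namespace CfsgLib.SymmDesign

variable {Ω : Type*} [Fintype Ω] [DecidableEq Ω] {D : Design Ω}
  {G : Type*} [Group G] [MulAction G Ω]

/-- `g` fixes `B` pointwise. -/
def Axial (g : G) (B : Finset Ω) : Prop := ∀ x ∈ B, g • x = x

/-- `g` fixes the points of `B` and no other. -/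
def IsElation (g : G) (B : Finset Ω) : Prop := Axial g B ∧ ∀ x, x ∉ B → g • x ≠ x

theorem Axial.smul_block {g : G} {B : Finset Ω} (hg : Axial g B) : g • B = B := by
  refine eq_of_subset_of_card_le (fun x hx => ?_) (card_smul_finset g B).ge
  obtain ⟨y, hy, rfl⟩ := mem_smul_finset.1 hx
  rwa [hg y hy]

theorem Axial.mul {g h : G} {B : Finset Ω} (hg : Axial g B) (hh : Axial h B) : Axial (g * h) B :=
  fun x hx => by rw [mul_smul, hh x hx, hg x hx]

theorem Axial.inv {g : G} {B : Finset Ω} (hg : Axial g B) : Axial g⁻¹ B := fun x hx =>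
  inv_smul_eq_iff.2 (hg x hx).symm

theorem Axial.conj {g : G} {B : Finset Ω} (h : G) (hg : Axial g B) :
    Axial (h * g * h⁻¹) (h • B) := fun x hx => by
  obtain ⟨y, hy, rfl⟩ := mem_smul_finset.1 hx
  rw [mul_smul, inv_smul_smul, mul_smul, hg y hy]

namespace Axial

variable {g : G} {B : Finset Ω} (hA : D.IsAut G) (hB : B ∈ D.blocks) (hg : Axial g B)
include hA hB hg

theorem inter_moved {C : Finset Ω} (hC : C ∈ D.blocks) (hm : g • C ≠ C) {x : Ω} (hx : x ∈ C)
    (hx' : x ∈ g • C) : x ∈ B := by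
  have hne : C ≠ B := fun h => hm (by rw [h]; exact hg.smul_block)
  have hsub : C ∩ B ⊆ C ∩ g • C := fun y hy => by
    obtain ⟨h1, h2⟩ := mem_inter.1 hy
    refine mem_inter.2 ⟨h1, ?_⟩
    rw [← hg y h2]; exact smul_mem_smul_finset h1
  have h := eq_of_subset_of_card_le hsub
    (by rw [Design.inter_card hC hB hne, Design.inter_card hC (hA g C hC) hm.symm])
  exact (mem_inter.1 (h ▸ mem_inter.2 ⟨hx, hx'⟩ : x ∈ C ∩ B)).2

theorem fixed_block_of_fixed {x : Ω} (hx : g • x = x) (hxB : x ∉ B) {C : Finset Ω}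
    (hC : C ∈ D.blocks) (hxC : x ∈ C) : g • C = C := by
  by_contra hm
  exact hxB (hg.inter_moved hA hB hC hm hxC (hx ▸ smul_mem_smul_finset hxC))

theorem fixed_block_of_pair {z : Ω} (hz : g • z ≠ z) {C : Finset Ω} (hC : C ∈ D.blocks)
    (hzC : z ∈ C) (hzC' : g • z ∈ C) : g • C = C := by
  by_contra hm
  exact hz (smul_left_cancel g
    (hg _ (hg.inter_moved hA hB hC hm hzC' (smul_mem_smul_finset hzC))))

theorem fixed_thru {z : Ω} (hz : g • z ≠ z) {C : Finset Ω} (hC : C ∈ D.blocks) (hzC : z ∈ C) :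
    g • C = C ↔ g • z ∈ C :=
  ⟨fun h => h ▸ smul_mem_smul_finset hzC, hg.fixed_block_of_pair hA hB hz hC hzC⟩

theorem pair_eq_of_fixed {x z : Ω} (hx : g • x = x) (hxB : x ∉ B) (hz : g • z ≠ z) :
    D.pair z x = D.pair z (g • z) := by
  refine eq_of_subset_of_card_le (fun C hC => ?_)
    (by rw [Design.card_pair' hz.symm, Design.card_pair' (by rintro rfl; exact hz hx)])
  obtain ⟨h1, h2, h3⟩ := Design.mem_pair.1 hC
  exact Design.mem_pair.2 ⟨h1, h2,
    (hg.fixed_thru hA hB hz h1 h2).1 (hg.fixed_block_of_fixed hA hB hx hxB h1 h3)⟩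

theorem fixed_outside_unique {x y z : Ω} (hx : g • x = x) (hxB : x ∉ B) (hy : g • y = y)
    (hyB : y ∉ B) (hz : g • z ≠ z) : x = y := by
  by_contra hxy
  obtain ⟨C, hC⟩ : (D.pair x y).Nonempty :=
    card_pos.1 (by rw [Design.card_pair' hxy]; exact D.lam_pos)
  obtain ⟨hC', hxC, hyC⟩ := Design.mem_pair.1 hC
  have key : ∀ w, g • w = w → w ∉ B → w ≠ x → ∀ u, g • u ≠ u → D.pair x w = D.pair u x := by
    intro w hw hwB hwx u hu
    have h : D.pair u x = D.pair u w :=
      (hg.pair_eq_of_fixed hA hB hx hxB hu).trans (hg.pair_eq_of_fixed hA hB hw hwB hu).symm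
    refine (eq_of_subset_of_card_le (fun A hA' => ?_) ?_).symm
    · obtain ⟨h1, h2, h3⟩ := Design.mem_pair.1 hA'
      exact Design.mem_pair.2 ⟨h1, h3, (Design.mem_pair.1 (h ▸ hA')).2.2⟩
    · rw [Design.card_pair' hwx.symm, Design.card_pair' (by rintro rfl; exact hu hx)]
  have hall : univ \ B ⊆ C \ B := fun w hw => by
    refine mem_sdiff.2 ⟨?_, (mem_sdiff.1 hw).2⟩
    by_cases hw' : g • w = w
    · by_cases hwx : w = x
      · exact hwx ▸ hxC
      · rw [key y hy hyB (Ne.symm hxy) z hz,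
          ← key w hw' (mem_sdiff.1 hw).2 hwx z hz] at hC
        exact (Design.mem_pair.1 hC).2.2
    · rw [key y hy hyB (Ne.symm hxy) w hw'] at hC
      exact (Design.mem_pair.1 hC).2.1
  have h1 := card_le_card hall
  have hne : C ≠ B := fun h => hxB (h ▸ hxC)
  rw [card_sdiff_of_subset (subset_univ _), card_univ, card_sdiff, D.card_block B hB,
    D.card_block C hC', inter_comm, Design.inter_card hC' hB hne] at h1
  have h2 := D.outside_mul
  have h3 := D.lam_add_two_le
  have h4 := Nat.mul_le_mul_right D.lam h1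
  rw [h2] at h4
  have := Nat.le_of_mul_le_mul_left h4 (by omega)
  omega

theorem card_fixed_points {x z : Ω} (hx : g • x = x) (hxB : x ∉ B) (hz : g • z ≠ z) :
    univ.filter (fun u : Ω => g • u = u) = insert x B := by
  ext u
  simp only [mem_filter, mem_univ, true_and, mem_insert]
  refine ⟨fun hu => ?_, ?_⟩
  · by_cases huB : u ∈ B
    · exact Or.inr huB
    · exact Or.inl (hg.fixed_outside_unique hA hB hu huB hx hxB hz)
  · rintro (rfl | hu)
    exacts [hx, hg u hu]

theorem homology_blocks {x z : Ω} (hx : g • x = x) (hxB : x ∉ B) (hz : g • z ≠ z) {C : Finset Ω}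
    (hC : C ∈ D.blocks) (hgC : g • C = C) : C = B ∨ x ∈ C := by
  have h0 : B ∉ D.thru x := fun h => hxB (Design.mem_thru.1 h).2
  have h := eq_of_subset_of_card_le
    (s := insert B (D.thru x)) (t := D.blocks.filter fun A => g • A = A)
    (fun A hA' => by
      rcases mem_insert.1 hA' with rfl | hA'
      · exact mem_filter.2 ⟨hB, hg.smul_block⟩
      · obtain ⟨h1, h2⟩ := Design.mem_thru.1 hA'
        exact mem_filter.2 ⟨h1, hg.fixed_block_of_fixed hA hB hx hxB h1 h2⟩)
    (by rw [← Design.card_fixed hA, hg.card_fixed_points hA hB hx hxB hz,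
          card_insert_of_notMem hxB, card_insert_of_notMem h0, D.card_block B hB,
          Design.card_thru'])
  have hC' : C ∈ insert B (D.thru x) := h ▸ mem_filter.2 ⟨hC, hgC⟩
  rcases mem_insert.1 hC' with h | h
  exacts [Or.inl h, Or.inr (Design.mem_thru.1 h).2]

/-- An automorphism with axis `B` that fixes every block through a point `p` of `B` and one point
outside `B` is trivial. -/
theorem trivial_of_center {p y : Ω} (hpB : p ∈ B) (hy : g • y = y) (hyB : y ∉ B)
    (hp : ∀ C ∈ D.blocks, p ∈ C → g • C = C) (u : Ω) : g • u = u := by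
  by_contra hu
  have hsub : D.thru p ⊆ insert B (D.pair p y) := fun C hC => by
    obtain ⟨h1, h2⟩ := Design.mem_thru.1 hC
    rcases hg.homology_blocks hA hB hy hyB hu h1 (hp C h1 h2) with h | h
    exacts [mem_insert.2 (Or.inl h), mem_insert_of_mem (Design.mem_pair.2 ⟨h1, h2, h⟩)]
  have h1 := (card_le_card hsub).trans (card_insert_le _ _)
  rw [Design.card_thru', Design.card_pair' (by rintro rfl; exact hyB hpB)] at h1
  have := D.lam_add_two_le; omega

end Axial

/-- The transitivity that the proof uses. -/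
structure Rich (D : Design Ω) (G : Type*) [Group G] [MulAction G Ω] : Prop where
  aut : D.IsAut G
  faithful : ∀ g : G, (∀ x : Ω, g • x = x) → g = 1
  two : ∀ x y x' y' : Ω, x ≠ y → x' ≠ y' → ∃ g : G, g • x = x' ∧ g • y = y'
  onB : ∀ B ∈ D.blocks, ∀ x ∈ B, ∀ y ∈ B, ∃ g : G, g • B = B ∧ g • x = y
  offB : ∀ B ∈ D.blocks, ∀ x, x ∉ B → ∀ y, y ∉ B → ∃ g : G, g • B = B ∧ g • x = y
  others : ∀ B ∈ D.blocks, ∀ C ∈ D.blocks, C ≠ B → ∀ C' ∈ D.blocks, C' ≠ B →
    ∃ g : G, g • B = B ∧ g • C = C'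
  axial : ∀ B ∈ D.blocks, ∃ g : G, g ≠ 1 ∧ Axial g B

namespace Rich

variable (hR : Rich D G)
include hR

theorem fixed_of_all_blocks {g : G} (hg : ∀ B ∈ D.blocks, g • B = B) : g = 1 :=
  hR.faithful g fun x => (Design.eq_of_thru_subset (D := D) fun B hB => by
    obtain ⟨h1, h2⟩ := Design.mem_thru.1 hB
    exact Design.mem_thru.2 ⟨h1, hg B h1 ▸ smul_mem_smul_finset h2⟩).symm

theorem exists_elation [Finite G] {B : Finset Ω} (hB : B ∈ D.blocks) :
    ∃ g : G, IsElation g B := by
  classical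
  by_contra hno
  simp only [IsElation, not_exists, not_and, not_forall, ne_eq, not_not] at hno
  let K : Subgroup G := fixingSubgroup G (B : Set Ω)
  have hK : ∀ g, g ∈ K ↔ Axial g B := fun g => by simp [K, mem_fixingSubgroup_iff, Axial]
  haveI := Fintype.ofFinite K
  haveI : Fintype (Quotient (MulAction.orbitRel K Ω)) := Fintype.ofFinite _
  have hmove : ∀ g : G, g ≠ 1 → ∃ z : Ω, g • z ≠ z := fun g hg => by
    by_contra! h; exact hg (hR.faithful g h)
  set N := Fintype.card (Quotient (MulAction.orbitRel K Ω)) with hNdef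
  have hsum : ∑ g : K, #(univ.filter fun x : Ω => g • x = x) = N * Fintype.card K := by
    rw [hNdef, ← MulAction.sum_card_fixedBy_eq_card_orbits_mul_card_group K Ω]
    refine sum_congr rfl fun g _ => ?_
    rw [← Nat.card_eq_fintype_card, ← Nat.card_eq_finsetCard]
    exact Nat.card_congr (Equiv.subtypeEquivRight fun x => by simp)
  have hfix : ∀ g : K, g ≠ 1 → #(univ.filter fun x : Ω => g • x = x) = D.k + 1 := fun g hg => by
    have hg' : (g : G) ≠ 1 := fun h => hg (Subtype.ext h)
    obtain ⟨x, hxB, hx⟩ := hno g.1 ((hK _).1 g.2)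
    obtain ⟨z, hz⟩ := hmove _ hg'
    have := ((hK _).1 g.2).card_fixed_points hR.aut hB hx hxB hz
    rw [← D.card_block B hB, ← card_insert_of_notMem hxB, ← this]
    rfl
  have e1 : N * Fintype.card K = Fintype.card Ω + (Fintype.card K - 1) * (D.k + 1) := by
    rw [← hsum, ← add_sum_erase _ _ (mem_univ (1 : K))]
    congr 1
    · simp
    · rw [sum_congr rfl (g := fun _ => D.k + 1) fun g hg => hfix g (ne_of_mem_erase hg)]
      simp
  have hstab : ∀ x, x ∉ B → 2 ≤ #(univ.filter fun g : K => g • x = x) := fun x hx => by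
    obtain ⟨g, hg1, hg⟩ := hR.axial B hB
    obtain ⟨y, hyB, hy⟩ := hno g hg
    obtain ⟨h, hhB, hhy⟩ := hR.offB B hB y hyB x hx
    have h' : Axial (h * g * h⁻¹) B := by
      have := hg.conj h; rwa [hhB] at this
    refine one_lt_card.2 ⟨1, by simp, ⟨h * g * h⁻¹, (hK _).2 h'⟩,
      mem_filter.2 ⟨mem_univ _, ?_⟩, fun e => hg1 ?_⟩
    · show (h * g * h⁻¹) • x = x
      rw [← hhy, mul_smul, inv_smul_smul, mul_smul, hy]
    · have e' : h * g * h⁻¹ = 1 := (congrArg Subtype.val e).symm
      rw [mul_inv_eq_one] at e'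
      simpa using e'
  have e2 : D.k * Fintype.card K + 2 * (Fintype.card Ω - D.k) ≤ N * Fintype.card K := by
    rw [← hsum, double_count univ univ fun (g : K) (x : Ω) => g • x = x,
      ← sum_sdiff (subset_univ B), add_comm (∑ x ∈ univ \ B, _)]
    refine Nat.add_le_add (le_of_eq ?_) ?_
    · rw [sum_congr rfl (g := fun _ => Fintype.card K) fun x hx => by
        rw [← card_univ]; congr 1
        exact filter_true_of_mem fun g _ => (hK _).1 g.2 x hx]
      simp [D.card_block B hB]
    · refine le_trans (le_of_eq ?_)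
        (card_nsmul_le_sum _ _ 2 fun x hx => hstab x (mem_sdiff.1 hx).2)
      rw [card_sdiff_of_subset (subset_univ _), card_univ, D.card_block B hB, smul_eq_mul, mul_comm]
  have := D.k_add_two_le
  obtain ⟨c, hc⟩ := Nat.exists_eq_add_of_le (Fintype.card_pos : 0 < Fintype.card K)
  obtain ⟨w, hw⟩ := Nat.exists_eq_add_of_le this
  rw [hw] at e1 e2
  rw [hc] at e1 e2
  rw [show D.k + 2 + w - D.k = 2 + w by omega] at e2
  rw [show Nat.succ 0 + c - 1 = c by omega] at e1
  simp only [Nat.succ_eq_add_one, zero_add] at e1 e2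
  rcases lt_or_ge N (D.k + 2) with hN | hN
  · have h1 := Nat.mul_le_mul_right (1 + c) (show N ≤ D.k + 1 by omega)
    linarith
  · have h1 := Nat.mul_le_mul_right (1 + c) hN
    linarith

set_option maxHeartbeats 1600000 in
/-- An elation has a centre on its axis: the blocks it fixes are those through the centre. -/
theorem exists_center [Finite G] {a : G} {C : Finset Ω} (hC : C ∈ D.blocks) (ha : IsElation a C) :
    ∃ p ∈ C, ∀ B ∈ D.blocks, a • B = B ↔ p ∈ B := by
  classical
  set F := D.blocks.filter fun B => a • B = B with hF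
  have hFB : ∀ B ∈ F, B ∈ D.blocks ∧ a • B = B := fun B hB => by simpa [hF] using hB
  have hfix : univ.filter (fun x : Ω => a • x = x) = C := by
    ext x
    simp only [mem_filter, mem_univ, true_and]
    exact ⟨fun h => by_contra fun hx => ha.2 x hx h, fun h => ha.1 x h⟩
  have hFk : #F = D.k := by rw [hF, ← Design.card_fixed hR.aut, hfix, D.card_block C hC]
  set f : Ω → ℕ := fun x => #(F.filter fun B => x ∈ B) with hf
  have hout : ∀ x, x ∉ C → f x = D.lam := fun x hx => by
    rw [← Design.card_pair' (ha.2 x hx).symm]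
    refine congrArg Finset.card ?_
    ext B
    simp only [mem_filter, Design.mem_pair, hF]
    exact ⟨fun ⟨⟨h1, h2⟩, h3⟩ => ⟨h1, h3, h2 ▸ smul_mem_smul_finset h3⟩,
      fun ⟨h1, h2, h3⟩ => ⟨⟨h1, ha.1.fixed_block_of_pair hR.aut hC (ha.2 x hx) h1 h2 h3⟩, h2⟩⟩
  have hin : ∀ p ∈ C, D.lam ≤ f p := by
    intro p hp
    by_cases hall : ∀ B ∈ F, p ∈ B
    · have : f p = #F := by rw [hf]; exact congrArg Finset.card (filter_true_of_mem hall)
      have := D.lam_add_two_le; omega
    push Not at hall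
    obtain ⟨B, hB, hpB⟩ := hall
    obtain ⟨hB1, hB2⟩ := hFB B hB
    have hne : C ≠ B := fun h => hpB (h ▸ hp)
    obtain ⟨y, hy, hyp⟩ : ∃ y : G, Axial y B ∧ y • p ∉ C := by
      by_contra! h
      have hfC : ∀ y : G, Axial y B → y • C = C := fun y hy => by
        by_contra hm
        have h1 := hy.inter_moved hR.aut hB1 hC hm (h y hy) (smul_mem_smul_finset hp)
        rw [← smul_mem_smul_finset_iff y⁻¹, inv_smul_smul,
          inv_smul_eq_iff.2 hy.smul_block.symm] at h1
        exact hpB h1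
      obtain ⟨g, hg1, hg⟩ := hR.axial B hB1
      refine hg1 (hR.fixed_of_all_blocks fun C' hC' => ?_)
      by_cases hC'B : C' = B
      · rw [hC'B]; exact hg.smul_block
      obtain ⟨h', hh, hh'⟩ := hR.others B hB1 C hC hne C' hC' hC'B
      have h3 : Axial (h'⁻¹ * g * h'⁻¹⁻¹) B := by
        have := hg.conj h'⁻¹
        rwa [inv_smul_eq_iff.2 hh.symm] at this
      have h4 := hfC _ h3
      rw [inv_inv, mul_smul, mul_smul, inv_smul_eq_iff, hh'] at h4
      exact h4
    have hxC : y • p ∉ C := hyp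
    rw [← hout _ hxC]
    refine card_le_card_of_injOn (fun C' => y⁻¹ • C') (fun C' hC' => ?_)
      (MulAction.injective (y⁻¹ : G)).injOn
    obtain ⟨hC'F, hC'x⟩ := mem_filter.1 hC'
    obtain ⟨h1, h2⟩ := hFB C' hC'F
    have hh : Axial (a * y * a⁻¹ * y⁻¹) B := by
      have h5 := hy.conj a
      rw [hB2] at h5
      exact h5.mul hy.inv
    have e1 : (a * y * a⁻¹ * y⁻¹) • (y • p) = a • y • p := by
      rw [mul_smul, inv_smul_smul, mul_smul, inv_smul_eq_iff.2 (ha.1 p hp).symm, mul_smul]
    have h6 : (a * y * a⁻¹ * y⁻¹) • C' = C' :=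
      hh.fixed_block_of_pair hR.aut hB1 (by rw [e1]; exact ha.2 _ hxC) h1 hC'x
        (by rw [e1]; exact h2 ▸ smul_mem_smul_finset hC'x)
    simp only [mul_smul] at h6
    simp only [mem_coe, mem_filter, hF]
    refine ⟨⟨hR.aut _ _ h1, ?_⟩, mem_inv_smul_finset_iff.2 hC'x⟩
    have h7 : a⁻¹ • y⁻¹ • C' = y⁻¹ • C' := by
      rw [eq_inv_smul_iff]
      rwa [← eq_inv_smul_iff, inv_smul_eq_iff.2 h2.symm] at h6
    exact (inv_smul_eq_iff.1 h7).symm
  have hs1 : ∑ x : Ω, f x = D.k * D.k := by
    simp only [hf]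
    rw [double_count univ F fun x B => x ∈ B,
      sum_congr rfl (g := fun _ => D.k) fun B hB => by
        rw [filter_univ_mem, D.card_block B (hFB B hB).1],
      sum_const, hFk, smul_eq_mul]
  have hs2 : ∑ x : Ω, f x * f x = D.k * D.k + D.k * (D.k - 1) * D.lam := by
    simp only [hf, ← card_product]
    have e : ∀ x : Ω, (F.filter fun B => x ∈ B) ×ˢ (F.filter fun B => x ∈ B) =
        (F ×ˢ F).filter fun z => x ∈ z.1 ∧ x ∈ z.2 := fun x => by
      ext z; simp only [mem_product, mem_filter]; tauto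
    simp only [e]
    rw [double_count univ (F ×ˢ F) fun x z => x ∈ z.1 ∧ x ∈ z.2, sum_product,
      sum_congr rfl (g := fun _ => D.k + (D.k - 1) * D.lam) fun B hB => by
        rw [← add_sum_erase _ _ hB,
          sum_congr rfl (g := fun _ => D.lam) fun B' hB' => by
            rw [← Design.inter_card (hFB B hB).1 (hFB B' (mem_of_mem_erase hB')).1
              (ne_of_mem_erase hB').symm]
            congr 1; ext u; simp,
          sum_const, smul_eq_mul, card_erase_of_mem hB, hFk]
        congr 1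
        simp [D.card_block B (hFB B hB).1],
      sum_const, hFk, smul_eq_mul, mul_add, mul_assoc]
  obtain ⟨p, hp, hmax⟩ := exists_max_image C f
    (card_pos.1 (by rw [D.card_block C hC]; have := D.two_le_k; omega))
  have hb := Design.basic (D := D) p
  have := D.k_add_two_le
  have := D.two_le_k
  have hC1 : (∑ x ∈ C, ((f x : ℤ) - D.lam)) = D.k - D.lam := by
    have h1 : ((∑ x ∈ univ \ C, f x : ℕ) : ℤ) = ((Fintype.card Ω : ℤ) - D.k) * D.lam := by
      rw [sum_congr rfl (g := fun _ => D.lam) fun x hx => hout x (mem_sdiff.1 hx).2, sum_const,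
        card_sdiff_of_subset (subset_univ _), card_univ, D.card_block C hC, smul_eq_mul,
        Nat.cast_mul, Nat.cast_sub (by omega)]
    have h2 : ((∑ x ∈ univ \ C, f x : ℕ) : ℤ) + (∑ x ∈ C, f x : ℕ) = (D.k * D.k : ℕ) := by
      rw [← hs1, ← sum_sdiff (subset_univ C)]; push_cast; rfl
    rw [sum_sub_distrib, sum_const, D.card_block C hC, nsmul_eq_mul]
    zify [show 1 ≤ Fintype.card Ω by omega, show 1 ≤ D.k by omega] at hb
    rw [h1] at h2
    push_cast at h2
    linear_combination h2 + hb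
  have hC2 : (∑ x ∈ C, ((f x : ℤ) - D.lam) * ((f x : ℤ) - D.lam)) =
      ((D.k : ℤ) - D.lam) * (D.k - D.lam) := by
    have h1 : ((∑ x ∈ univ \ C, f x * f x : ℕ) : ℤ) =
        ((Fintype.card Ω : ℤ) - D.k) * (D.lam * D.lam) := by
      rw [sum_congr rfl (g := fun _ => D.lam * D.lam) fun x hx => by
          rw [hout x (mem_sdiff.1 hx).2],
        sum_const, card_sdiff_of_subset (subset_univ _), card_univ, D.card_block C hC,
        smul_eq_mul, Nat.cast_mul, Nat.cast_sub (by omega), Nat.cast_mul]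
    have h2 : ((∑ x ∈ univ \ C, f x * f x : ℕ) : ℤ) + (∑ x ∈ C, f x * f x : ℕ) =
        (D.k * D.k + D.k * (D.k - 1) * D.lam : ℕ) := by
      rw [← hs2, ← sum_sdiff (subset_univ C)]; push_cast; rfl
    rw [sum_congr rfl (g := fun x => ((f x : ℤ) * f x) - 2 * D.lam * ((f x : ℤ) - D.lam) -
      D.lam * D.lam) fun x _ => by ring]
    rw [sum_sub_distrib, sum_sub_distrib, ← mul_sum, hC1, sum_const, D.card_block C hC,
      nsmul_eq_mul]
    zify [show 1 ≤ Fintype.card Ω by omega, show 1 ≤ D.k by omega] at hb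
    rw [h1] at h2
    push_cast [Nat.cast_sub (show 1 ≤ D.k by omega)] at h2
    linear_combination h2 + (D.lam : ℤ) * hb
  have h3 : ((D.k : ℤ) - D.lam) * (D.k - D.lam) ≤ ((f p : ℤ) - D.lam) * (D.k - D.lam) := by
    rw [← hC2, ← hC1, mul_sum]
    refine sum_le_sum fun x hx => mul_le_mul_of_nonneg_right ?_ ?_
    · have := hmax x hx; omega
    · have := hin x hx; omega
  have hfp : D.k ≤ f p := by
    have := D.lam_add_two_le
    have h4 := le_of_mul_le_mul_right h3 (by omega)
    omega
  refine ⟨p, hp, fun B hB => ?_⟩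
  have e1 : F.filter (fun B => p ∈ B) = F :=
    eq_of_subset_of_card_le (filter_subset _ _) (by rw [hFk]; exact hfp)
  have e2 : F.filter (fun B => p ∈ B) = D.thru p :=
    eq_of_subset_of_card_le (fun A hA' => Design.mem_thru.2
      ⟨(hFB A (mem_filter.1 hA').1).1, (mem_filter.1 hA').2⟩)
      (by rw [Design.card_thru']; exact hfp)
  have := Finset.ext_iff.1 (e1.symm.trans e2) B
  simp only [hF, mem_filter, Design.mem_thru] at this
  exact ⟨fun h => (this.1 ⟨hB, h⟩).2, fun h => (this.2 ⟨hB, h⟩).2⟩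

end Rich

end CfsgLib.SymmDesign
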