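import Mathlib.GroupTheory.GroupAction.Quotient
import Mathlib.GroupTheory.GroupAction.MultipleTransitivity
import Mathlib.GroupTheory.GroupAction.SubMulAction
import Mathlib.Algebra.Group.Action.Pointwise.Finset
import Mathlib.Data.Fintype.BigOperators
import Mathlib.Data.Int.ConditionallyCompleteOrder
import Mathlib.Tactic.Linarith
import Mathlib.Tactic.Ring
import Mathlib.Tactic.LinearCombination

/-!
# Symmetric designs and their automorphisms: counting

In a symmetric design two blocks meet in `λ` points, and an automorphism fixes as many blocks as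
points; hence every group of automorphisms has as many orbits on blocks as on points.
-/

set_option autoImplicit false

open Finset
open scoped Pointwise

namespace CfsgLib.SymmDesign

theorem double_count {α β : Type*} (s : Finset α) (t : Finset β) (r : α → β → Prop)
    [∀ a b, Decidable (r a b)] :
    ∑ a ∈ s, #(t.filter (r a)) = ∑ b ∈ t, #(s.filter (r · b)) := by
  simp_rw [Finset.card_filter]
  exact Finset.sum_comm

/-- Two members of a square family in which points and pairs are equally covered meet in `lam`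
points. -/
theorem inter_eq {Ω ι : Type*} [Fintype Ω] [DecidableEq Ω] [Fintype ι] [DecidableEq ι]
    (β : ι → Finset Ω) {k lam : ℕ} (hι : Fintype.card ι = Fintype.card Ω)
    (hk : ∀ i, #(β i) = k) (hr : ∀ x, #(univ.filter fun i => x ∈ β i) = k)
    (hp : ∀ x y, x ≠ y → #(univ.filter fun i => x ∈ β i ∧ y ∈ β i) = lam) (hk2 : 2 ≤ k)
    {i j : ι} (hij : i ≠ j) : #(β i ∩ β j) = lam := by
  set J : Finset ι := univ.erase i
  have hJ : #J + 1 = Fintype.card Ω := by
    rw [card_erase_add_one (mem_univ i), ← hι]; rfl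
  have hJr : ∀ x ∈ β i, #(J.filter fun j => x ∈ β j) + 1 = k := fun x hx => by
    rw [filter_erase, card_erase_add_one (by simp [hx]), hr]
  have hJp : ∀ x ∈ β i, ∀ y ∈ β i, x ≠ y →
      #(J.filter fun j => x ∈ β j ∧ y ∈ β j) + 1 = lam := fun x hx y hy hxy => by
    rw [filter_erase, card_erase_add_one (by simp [hx, hy]), hp x y hxy]
  obtain ⟨x₀, hx₀⟩ : (β i).Nonempty := card_pos.1 (by rw [hk]; omega)
  have hkl : (k : ℤ) * (k - 1) = lam * (#J : ℤ) := by
    have h1 : ∑ l ∈ univ.filter (fun l => x₀ ∈ β l), #((univ.erase x₀).filter fun y => y ∈ β l)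
        = #J * lam := by
      rw [double_count (univ.filter fun l => x₀ ∈ β l) (univ.erase x₀) fun l y => y ∈ β l]
      rw [sum_congr rfl (g := fun _ => lam) fun y hy => by
        rw [filter_filter]; exact hp x₀ y (ne_of_mem_erase hy).symm]
      rw [sum_const, smul_eq_mul]
      congr 1
      have := card_erase_add_one (mem_univ x₀)
      rw [card_univ] at this
      omega
    rw [sum_congr rfl (g := fun _ => k - 1) fun l hl => by
      rw [filter_erase, filter_univ_mem, card_erase_of_mem (mem_filter.1 hl).2, hk],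
      sum_const, smul_eq_mul, hr] at h1
    have h2 : ((k * (k - 1) : ℕ) : ℤ) = (#J * lam : ℕ) := by rw [h1]
    push_cast [Nat.cast_sub (show 1 ≤ k by omega)] at h2
    linarith
  have hn1 : (∑ j ∈ J, (#(β i ∩ β j) : ℤ)) = k * (k - 1) := by
    have h1 : ∑ j ∈ J, #(β i ∩ β j) = ∑ x ∈ β i, #(J.filter fun j => x ∈ β j) := by
      rw [← double_count J (β i) fun j x => x ∈ β j]
      exact sum_congr rfl fun j _ => by rw [filter_mem_eq_inter]
    rw [← Nat.cast_sum, h1, Nat.cast_sum, sum_congr rfl (g := fun _ => (k : ℤ) - 1)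
      fun x hx => by have := hJr x hx; omega]
    simp [hk]; ring
  have hn2 : (∑ j ∈ J, (#(β i ∩ β j) : ℤ) ^ 2) = k * (k - 1) + k * (k - 1) * ((lam : ℤ) - 1) := by
    have h1 : ∑ j ∈ J, #(β i ∩ β j) * #(β i ∩ β j) =
        ∑ x ∈ β i, ∑ y ∈ β i, #(J.filter fun j => x ∈ β j ∧ y ∈ β j) := by
      rw [← sum_product (β i) (β i) (fun z => #(J.filter fun j => z.1 ∈ β j ∧ z.2 ∈ β j)),
        ← double_count J (β i ×ˢ β i) fun j z => z.1 ∈ β j ∧ z.2 ∈ β j]
      refine sum_congr rfl fun j _ => ?_
      rw [← card_product]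
      congr 1; ext z
      simp only [mem_product, mem_inter, mem_filter]; tauto
    simp_rw [pow_two, ← Nat.cast_mul]
    rw [← Nat.cast_sum, h1, Nat.cast_sum]
    rw [sum_congr rfl (g := fun _ => ((k : ℤ) - 1) + ((k : ℤ) - 1) * ((lam : ℤ) - 1)) fun x hx => by
      rw [Nat.cast_sum, ← add_sum_erase _ _ hx,
        sum_congr rfl (g := fun _ => (lam : ℤ) - 1) fun y hy => by
          have := hJp x hx y (mem_of_mem_erase hy) (ne_of_mem_erase hy).symm; omega]
      rw [sum_const, nsmul_eq_mul, card_erase_of_mem hx, hk,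
        Nat.cast_sub (show 1 ≤ k by omega)]
      have : ((#(J.filter fun j => x ∈ β j ∧ x ∈ β j)) : ℤ) = k - 1 := by
        simp only [and_self]
        have := hJr x hx; omega
      rw [this]; simp]
    simp only [sum_const, hk, nsmul_eq_mul]
    push_cast; ring
  have hvar : ∑ l ∈ J, ((#(β i ∩ β l) : ℤ) - lam) ^ 2 = 0 := by
    simp_rw [sub_sq]
    rw [sum_add_distrib, sum_sub_distrib, ← sum_mul, ← mul_sum, hn1, hn2, sum_const, nsmul_eq_mul]
    linear_combination (-(lam : ℤ)) * hkl
  have h3 := (sum_eq_zero_iff_of_nonneg fun l _ => sq_nonneg _).1 hvar j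
    (mem_erase.2 ⟨hij.symm, mem_univ j⟩)
  rw [sq_eq_zero_iff, sub_eq_zero] at h3
  exact_mod_cast h3

/-- A symmetric design on `Ω`, given by its set of blocks. -/
structure Design (Ω : Type*) [Fintype Ω] [DecidableEq Ω] where
  blocks : Finset (Finset Ω)
  k : ℕ
  lam : ℕ
  card_blocks : #blocks = Fintype.card Ω
  card_block : ∀ B ∈ blocks, #B = k
  card_thru : ∀ x, #(blocks.filter fun B => x ∈ B) = k
  card_pair : ∀ x y, x ≠ y → #(blocks.filter fun B => x ∈ B ∧ y ∈ B) = lam
  two_le_k : 2 ≤ k
  k_add_two_le : k + 2 ≤ Fintype.card Ω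

variable {Ω : Type*} [Fintype Ω] [DecidableEq Ω] (D : Design Ω)

namespace Design

/-- The blocks through a point. -/
def thru (x : Ω) : Finset (Finset Ω) := D.blocks.filter fun B => x ∈ B

/-- The blocks through two points. -/
def pair (x y : Ω) : Finset (Finset Ω) := D.blocks.filter fun B => x ∈ B ∧ y ∈ B

variable {D}

theorem mem_thru {x : Ω} {B : Finset Ω} : B ∈ D.thru x ↔ B ∈ D.blocks ∧ x ∈ B := by
  simp [thru]

theorem mem_pair {x y : Ω} {B : Finset Ω} :
    B ∈ D.pair x y ↔ B ∈ D.blocks ∧ x ∈ B ∧ y ∈ B := by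
  simp [pair]

theorem card_thru' (x : Ω) : #(D.thru x) = D.k := D.card_thru x

theorem card_pair' {x y : Ω} (h : x ≠ y) : #(D.pair x y) = D.lam := D.card_pair x y h

theorem basic (x : Ω) : D.k * (D.k - 1) = (Fintype.card Ω - 1) * D.lam := by
  have h1 : ∑ B ∈ D.thru x, #((univ.erase x).filter fun y => y ∈ B)
      = #(univ.erase x) * D.lam := by
    rw [double_count (D.thru x) (univ.erase x) fun B y => y ∈ B,
      sum_congr rfl (g := fun _ => D.lam) fun y hy => by
        rw [thru, filter_filter]; exact D.card_pair x y (ne_of_mem_erase hy).symm,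
      sum_const, smul_eq_mul]
  rwa [sum_congr rfl (g := fun _ => D.k - 1) fun B hB => by
      rw [filter_erase, filter_univ_mem, card_erase_of_mem (mem_thru.1 hB).2,
        D.card_block B (mem_thru.1 hB).1],
    sum_const, smul_eq_mul, card_thru', card_erase_of_mem (mem_univ x), card_univ] at h1

theorem nonempty (D : Design Ω) : Nonempty Ω :=
  Fintype.card_pos_iff.1 (by have := D.k_add_two_le; omega)

theorem lam_pos (D : Design Ω) : 1 ≤ D.lam := by
  obtain ⟨x⟩ := nonempty D
  rcases Nat.eq_zero_or_pos D.lam with h | h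
  · have h1 := basic (D := D) x
    rw [h, mul_zero, Nat.mul_eq_zero] at h1
    have := D.two_le_k; omega
  · exact h

theorem lam_add_two_le (D : Design Ω) : D.lam + 2 ≤ D.k := by
  obtain ⟨x⟩ := nonempty D
  have h1 := basic (D := D) x
  have := D.two_le_k
  have := D.k_add_two_le
  by_contra h
  have h2 : (Fintype.card Ω - 1) * (D.k - 1) ≤ D.k * (D.k - 1) :=
    h1 ▸ Nat.mul_le_mul_left _ (by omega)
  have := Nat.le_of_mul_le_mul_right h2 (by omega)
  omega

theorem outside_mul (D : Design Ω) :
    (Fintype.card Ω - D.k) * D.lam = (D.k - D.lam) * (D.k - 1) := by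
  obtain ⟨x⟩ := nonempty D
  have h1 := basic (D := D) x
  have := D.k_add_two_le
  have := lam_add_two_le D
  have := D.two_le_k
  obtain ⟨a, ha⟩ := Nat.exists_eq_add_of_le (show 1 ≤ D.k by omega)
  rw [tsub_mul, tsub_mul, h1, tsub_mul, ha]
  have : (1 + a) * D.lam ≤ Fintype.card Ω * D.lam := Nat.mul_le_mul_right _ (by omega)
  rw [Nat.add_sub_cancel_left, one_mul, add_mul, one_mul, mul_comm D.lam a]
  omega

theorem inter_card {B C : Finset Ω} (hB : B ∈ D.blocks) (hC : C ∈ D.blocks) (hne : B ≠ C) :
    #(B ∩ C) = D.lam := by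
  have key : ∀ p : Finset Ω → Prop, ∀ [DecidablePred p],
      #(univ.filter fun i : D.blocks => p i.1) = #(D.blocks.filter p) := fun p _ => by
    rw [← card_map (Function.Embedding.subtype _)]
    congr 1; ext A; simp [and_comm]
  exact inter_eq (fun i : D.blocks => (i : Finset Ω)) (by rw [Fintype.card_coe, D.card_blocks])
    (fun i => D.card_block _ i.2) (fun x => by rw [key fun A => x ∈ A]; exact D.card_thru x)
    (fun x y h => by rw [key fun A => x ∈ A ∧ y ∈ A]; exact D.card_pair x y h) D.two_le_k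
    (i := ⟨B, hB⟩) (j := ⟨C, hC⟩) (by simpa using hne)

theorem eq_of_thru_subset {x y : Ω} (h : D.thru x ⊆ D.thru y) : x = y := by
  by_contra hne
  have h1 : D.thru x ⊆ D.pair x y := fun B hB =>
    mem_pair.2 ⟨(mem_thru.1 hB).1, (mem_thru.1 hB).2, (mem_thru.1 (h hB)).2⟩
  have := card_le_card h1
  rw [card_thru', card_pair' hne] at this
  have := lam_add_two_le D; omega

theorem exists_not_mem {B : Finset Ω} (hB : B ∈ D.blocks) : ∃ x, x ∉ B := by
  by_contra! h
  have := card_le_card (fun x _ => h x : (univ : Finset Ω) ⊆ B)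
  rw [card_univ, D.card_block B hB] at this
  have := D.k_add_two_le; omega

theorem exists_mem_not_mem {B C : Finset Ω} (hB : B ∈ D.blocks) (hC : C ∈ D.blocks)
    (hne : B ≠ C) : ∃ x ∈ B, x ∉ C := by
  by_contra! h
  have h1 := inter_card hB hC hne
  rw [inter_eq_left.2 h, D.card_block B hB] at h1
  have := lam_add_two_le D; omega

variable (D) (G : Type*) [Group G] [MulAction G Ω]

/-- `G` acts by automorphisms of the design. -/
def IsAut : Prop := ∀ g : G, ∀ B ∈ D.blocks, g • B ∈ D.blocks

variable {D G}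

theorem smul_pair (hA : D.IsAut G) (g : G) {x y : Ω} {B : Finset Ω} :
    g • B ∈ D.pair (g • x) (g • y) ↔ B ∈ D.pair x y := by
  simp only [mem_pair, smul_mem_smul_finset_iff]
  refine and_congr_left fun _ => ⟨fun h => ?_, hA g B⟩
  simpa using hA g⁻¹ _ h

/-- An automorphism fixes as many blocks as points. -/
theorem card_fixed (hA : D.IsAut G) (g : G) :
    #(univ.filter fun x : Ω => g • x = x) = #(D.blocks.filter fun B => g • B = B) := by
  have h1 : ∑ x : Ω, #(D.blocks.filter fun B => x ∈ B ∧ g • x ∈ B) =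
      #(univ.filter fun x : Ω => g • x = x) * D.k +
        #(univ.filter fun x : Ω => ¬g • x = x) * D.lam := by
    rw [← sum_filter_add_sum_filter_not univ (fun x : Ω => g • x = x)]
    congr 1
    · rw [sum_congr rfl (g := fun _ => D.k) fun x hx => by
        simp_rw [(mem_filter.1 hx).2, and_self]; exact D.card_thru x]
      simp
    · rw [sum_congr rfl (g := fun _ => D.lam) fun x hx =>
        D.card_pair _ _ (Ne.symm (mem_filter.1 hx).2)]
      simp
  have h2 : ∑ x : Ω, #(D.blocks.filter fun B => x ∈ B ∧ g • x ∈ B) =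
      #(D.blocks.filter fun B => g • B = B) * D.k +
        #(D.blocks.filter fun B => ¬g • B = B) * D.lam := by
    rw [double_count univ D.blocks fun x B => x ∈ B ∧ g • x ∈ B,
      ← sum_filter_add_sum_filter_not D.blocks (fun B => g • B = B)]
    have e : ∀ B : Finset Ω, (univ.filter fun x => x ∈ B ∧ g • x ∈ B) = B ∩ g⁻¹ • B := fun B => by
      ext x; simp [mem_inv_smul_finset_iff]
    congr 1
    · rw [sum_congr rfl (g := fun _ => D.k) fun B hB => by
        rw [e, inv_smul_eq_iff.2 (mem_filter.1 hB).2.symm, inter_self,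
          D.card_block B (mem_filter.1 hB).1]]
      simp
    · rw [sum_congr rfl (g := fun _ => D.lam) fun B hB => by
        rw [e]
        exact inter_card (mem_filter.1 hB).1 (hA _ _ (mem_filter.1 hB).1) fun h =>
          (mem_filter.1 hB).2 (by rw [eq_inv_smul_iff] at h; exact h)]
      simp
  have h3 := card_filter_add_card_filter_not (s := (univ : Finset Ω))
    (fun x : Ω => g • x = x)
  have h4 := card_filter_add_card_filter_not (s := D.blocks) (fun B => g • B = B)
  rw [card_univ] at h3
  rw [D.card_blocks] at h4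
  have h5 := h1.symm.trans h2
  obtain ⟨d, hd⟩ := Nat.exists_eq_add_of_le (lam_add_two_le D)
  have h6 : (D.k : ℤ) - D.lam ≠ 0 := by omega
  have h7 : (#(univ.filter fun x : Ω => g • x = x) : ℤ) * ((D.k : ℤ) - D.lam) =
      (#(D.blocks.filter fun B => g • B = B) : ℤ) * ((D.k : ℤ) - D.lam) := by
    zify at h3 h4 h5
    linear_combination h5 - (D.lam : ℤ) * h3 + (D.lam : ℤ) * h4
  exact_mod_cast mul_right_cancel₀ h6 h7

/-- The blocks as a `G`-set. -/
def blk (hA : D.IsAut G) : SubMulAction G (Finset Ω) where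
  carrier := D.blocks
  smul_mem' g B hB := hA g B hB

theorem card_orbits_eq (hA : D.IsAut G) (S : Subgroup G) :
    Nat.card (Quotient (MulAction.orbitRel S Ω)) =
      Nat.card (Quotient (MulAction.orbitRel S (blk hA))) := by
  classical
  haveI : Finite (Finset Ω) := inferInstance
  let f : S →* Equiv.Perm Ω := (MulAction.toPermHom G Ω).comp S.subtype
  -- pass to the finite image of `S`
  haveI : Finite f.range := inferInstance
  have hA' : D.IsAut f.range := by
    rintro ⟨_, s, rfl⟩ B hB
    exact hA s.1 B hB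
  have e1 : MulAction.orbitRel S Ω = MulAction.orbitRel f.range Ω := by
    ext x y
    simp only [MulAction.orbitRel_apply, MulAction.mem_orbit_iff]
    exact ⟨fun ⟨s, hs⟩ => ⟨⟨_, s, rfl⟩, hs⟩, fun ⟨⟨_, s, rfl⟩, hs⟩ => ⟨s, hs⟩⟩
  have e2 : Nat.card (Quotient (MulAction.orbitRel S (blk hA))) =
      Nat.card (Quotient (MulAction.orbitRel f.range (blk hA'))) := by
    refine Nat.card_congr (Quotient.congr ⟨fun B => ⟨B.1, B.2⟩, fun B => ⟨B.1, B.2⟩,
      fun _ => rfl, fun _ => rfl⟩ fun x y => ?_)
    simp only [MulAction.orbitRel_apply, MulAction.mem_orbit_iff]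
    exact ⟨fun ⟨s, hs⟩ => ⟨⟨_, s, rfl⟩, Subtype.ext (congrArg Subtype.val hs :)⟩,
      fun ⟨⟨_, s, rfl⟩, hs⟩ => ⟨s, Subtype.ext (congrArg Subtype.val hs :)⟩⟩
  rw [e1, e2]
  haveI := Fintype.ofFinite f.range
  haveI : Fintype (blk hA') := Fintype.ofFinite _
  haveI : Fintype (Quotient (MulAction.orbitRel f.range Ω)) := Fintype.ofFinite _
  haveI : Fintype (Quotient (MulAction.orbitRel f.range (blk hA'))) := Fintype.ofFinite _
  have h1 := MulAction.sum_card_fixedBy_eq_card_orbits_mul_card_group f.range Ω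
  have h2 := MulAction.sum_card_fixedBy_eq_card_orbits_mul_card_group f.range (blk hA')
  rw [Nat.card_eq_fintype_card, Nat.card_eq_fintype_card]
  refine Nat.eq_of_mul_eq_mul_right Fintype.card_pos (h1.symm.trans (Eq.trans ?_ h2))
  refine sum_congr rfl fun s _ => ?_
  rw [← Nat.card_eq_fintype_card, ← Nat.card_eq_fintype_card]
  calc Nat.card (MulAction.fixedBy Ω s) = #(univ.filter fun x : Ω => s • x = x) := by
        rw [← Nat.card_eq_finsetCard]
        exact Nat.card_congr (Equiv.subtypeEquivRight fun x => by simp)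
    _ = #(D.blocks.filter fun B => s • B = B) := card_fixed hA' s
    _ = Nat.card (MulAction.fixedBy (blk hA') s) := by
        rw [← Nat.card_eq_finsetCard]
        exact Nat.card_congr
          { toFun := fun B => ⟨⟨B.1, (mem_filter.1 B.2).1⟩, Subtype.ext (mem_filter.1 B.2).2⟩
            invFun := fun B => ⟨B.1.1, mem_filter.2 ⟨B.1.2, congrArg Subtype.val B.2⟩⟩
            left_inv := fun _ => rfl
            right_inv := fun _ => rfl }

end Design

/-- A group with two invariant nonempty pieces, transitive on each, has two orbits; conversely. -/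
theorem two_orbits_iff {S X : Type*} [Group S] [MulAction S X] (P : X → Prop)
    (hinv : ∀ (s : S) (x : X), P (s • x) ↔ P x) {a b : X} (ha : P a) (hb : ¬P b) :
    Nat.card (Quotient (MulAction.orbitRel S X)) = 2 ↔
      (∀ x, P x → ∃ s : S, s • a = x) ∧ ∀ x, ¬P x → ∃ s : S, s • b = x := by
  let mk : X → Quotient (MulAction.orbitRel S X) := Quotient.mk _
  have hmk : ∀ x y, mk x = mk y → ∃ s : S, s • y = x := fun x y h =>
    MulAction.mem_orbit_iff.1 (MulAction.orbitRel_apply.1 (Quotient.exact h))
  have hab : mk a ≠ mk b := fun h => by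
    obtain ⟨s, hs⟩ := hmk _ _ h
    exact hb ((hinv s b).1 (hs ▸ ha))
  constructor
  · intro h2
    rw [Nat.card_eq_two_iff] at h2
    have hall : ∀ x, mk x = mk a ∨ mk x = mk b := fun x => by
      obtain ⟨u, w, huw, hu⟩ := h2
      have hm : ∀ z : Quotient (MulAction.orbitRel S X), z = u ∨ z = w := fun z => by
        have := Set.ext_iff.1 hu z; simpa using this
      rcases hm (mk x) with h | h <;> rcases hm (mk a) with ha' | ha' <;>
        rcases hm (mk b) with hb' | hb' <;> grind
    refine ⟨fun x hx => ?_, fun x hx => ?_⟩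
    · rcases hall x with h | h
      · exact hmk _ _ h
      · obtain ⟨s, hs⟩ := hmk _ _ h
        exact absurd ((hinv s b).1 (hs ▸ hx)) hb
    · rcases hall x with h | h
      · obtain ⟨s, hs⟩ := hmk _ _ h
        exact absurd (hs ▸ (hinv s a).2 ha) hx
      · exact hmk _ _ h
  · rintro ⟨h1, h2⟩
    rw [Nat.card_eq_two_iff]
    refine ⟨mk a, mk b, hab, ?_⟩
    ext z
    induction z using Quotient.inductionOn with | _ x => ?_
    simp only [Set.mem_insert_iff, Set.mem_singleton_iff, Set.mem_univ, iff_true]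
    by_cases hx : P x
    · obtain ⟨s, rfl⟩ := h1 x hx
      exact Or.inl (Quotient.sound (MulAction.orbitRel_apply.2 (MulAction.mem_orbit _ s)))
    · obtain ⟨s, rfl⟩ := h2 x hx
      exact Or.inr (Quotient.sound (MulAction.orbitRel_apply.2 (MulAction.mem_orbit _ s)))

end CfsgLib.SymmDesign
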