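import Cfsg.Agent.Lib.Recog.SymmDesign.Elation
import Mathlib.GroupTheory.GroupAction.MultiplePrimitivity
import Mathlib.GroupTheory.Index

/-!
# The design of an intransitive subgroup of index the degree in a 2-transitive group
-/

set_option autoImplicit false

open Finset
open scoped Pointwise

namespace CfsgLib.SymmDesign

theorem exists_rich {G Ω : Type*} [Group G] [Finite G] [MulAction G Ω] [FaithfulSMul G Ω]
    [Fintype Ω] [DecidableEq Ω] (h2 : MulAction.IsMultiplyPretransitive G Ω 2) (H : Subgroup G)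
    (hidx : H.index = Nat.card Ω) (hnt : ¬ MulAction.IsPretransitive H Ω)
    (hfix : ∀ a : Ω, ∃ h : H, h • a ≠ a)
    (hunf : ∃ a : Ω, ∃ h : H, h ≠ 1 ∧ ∀ b ∈ MulAction.orbit H a, h • b = b) :
    ∃ D : Design Ω, Rich D G := by
  classical
  obtain ⟨a, h₀, hh₀, hh₀fix⟩ := hunf
  have h2' : ∀ {a b c d : Ω}, a ≠ b → c ≠ d → ∃ g : G, g • a = c ∧ g • b = d :=
    MulAction.is_two_pretransitive_iff.1 h2
  haveI := Fintype.ofFinite G
  set O : Finset Ω := univ.filter fun b => b ∈ MulAction.orbit H a with hOdef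
  have hO : ∀ b, b ∈ O ↔ ∃ h ∈ H, h • a = b := fun b => by
    simp only [hOdef, mem_filter, mem_univ, true_and, MulAction.mem_orbit_iff]
    exact ⟨fun ⟨h, hh⟩ => ⟨h.1, h.2, hh⟩, fun ⟨h, hH, hh⟩ => ⟨⟨h, hH⟩, hh⟩⟩
  have hHO : ∀ h ∈ H, h • O = O := fun h hh => by
    refine eq_of_subset_of_card_le (fun x hx => ?_) (card_smul_finset h O).ge
    obtain ⟨y, hy, rfl⟩ := mem_smul_finset.1 hx
    obtain ⟨g, hg, rfl⟩ := (hO y).1 hy
    exact (hO _).2 ⟨h * g, mul_mem hh hg, mul_smul _ _ _⟩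
  have haO : a ∈ O := (hO a).2 ⟨1, one_mem _, one_smul _ _⟩
  obtain ⟨⟨h₁, hh₁⟩, hne₁⟩ := hfix a
  have ha₁ : a ≠ h₁ • a := fun e => hne₁ e.symm
  have hk2 : 2 ≤ #O := one_lt_card.2 ⟨a, haO, h₁ • a, (hO _).2 ⟨h₁, hh₁, rfl⟩, ha₁⟩
  have hOne : ∀ b, ∃ x, x ∉ O ∧ x ≠ b := fun b => by
    by_contra! hall
    by_cases hbO : b ∈ O
    · refine hnt ⟨fun x y => ?_⟩
      have hx : ∀ z, z ∈ O := fun z => by_contra fun hz => hz (hall z hz ▸ hbO)
      obtain ⟨g, hg, hgx⟩ := (hO x).1 (hx x)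
      obtain ⟨g', hg', hgy⟩ := (hO y).1 (hx y)
      refine ⟨⟨g' * g⁻¹, mul_mem hg' (inv_mem hg)⟩, ?_⟩
      show (g' * g⁻¹) • x = y
      rw [← hgx, ← hgy, mul_smul, inv_smul_smul]
    · obtain ⟨⟨h, hh⟩, hb⟩ := hfix b
      refine hb (hall (h • b) fun hm => hbO ?_)
      have hm' := smul_mem_smul_finset (a := h⁻¹) hm
      rwa [inv_smul_smul, hHO h⁻¹ (inv_mem hh)] at hm'
  have hk : #O + 2 ≤ Fintype.card Ω := by
    obtain ⟨x, hx, -⟩ := hOne a
    obtain ⟨y, hy, hyx⟩ := hOne x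
    rw [← card_univ, ← card_sdiff_add_card_eq_card (subset_univ O), add_comm]
    exact Nat.add_le_add_right (one_lt_card.2 ⟨x, by simp [hx], y, by simp [hy], hyx.symm⟩) _
  have hcompat : ∀ g g' : G, g⁻¹ * g' ∈ H → g • O = g' • O := fun g g' hgg => by
    conv_lhs => rw [← hHO _ hgg, ← mul_smul, mul_inv_cancel_left]
  let β : G ⧸ H → Finset Ω := fun q => Quotient.liftOn' q (fun g : G => g • O)
    fun g g' hgg => hcompat g g' (QuotientGroup.leftRel_apply.1 hgg)
  have hβ : ∀ g : G, β (QuotientGroup.mk g) = g • O := fun g => rfl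
  haveI := Fintype.ofFinite (G ⧸ H)
  have hι : Fintype.card (G ⧸ H) = Fintype.card Ω := by
    rw [← Nat.card_eq_fintype_card, ← Nat.card_eq_fintype_card, ← hidx]; rfl
  have hβsmul : ∀ (g : G) (q : G ⧸ H), β (g • q) = g • β q := fun g q => by
    induction q using QuotientGroup.induction_on with | _ x => ?_
    rw [MulAction.Quotient.smul_mk, hβ, hβ, smul_eq_mul, mul_smul]
  have hcard : ∀ q, #(β q) = #O := fun q => by
    induction q using QuotientGroup.induction_on with | _ x => ?_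
    rw [hβ, card_smul_finset]
  set lam := #(univ.filter fun q => a ∈ β q ∧ h₁ • a ∈ β q) with hlam
  have hp : ∀ x y, x ≠ y → #(univ.filter fun q => x ∈ β q ∧ y ∈ β q) = lam := fun x y hxy => by
    obtain ⟨g, hgx, hgy⟩ := h2' ha₁ hxy
    refine (card_equiv (MulAction.toPerm g) fun q => ?_).symm
    simp only [mem_filter, mem_univ, true_and, MulAction.toPerm_apply, hβsmul]
    rw [← hgx, ← hgy, smul_mem_smul_finset_iff, smul_mem_smul_finset_iff]
  have htrans : ∀ x y : Ω, ∃ g : G, g • x = y := fun x y => by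
    obtain ⟨z, -, hzx⟩ := hOne x
    obtain ⟨w, -, hwy⟩ := hOne y
    obtain ⟨g, hg, -⟩ := h2' hzx.symm hwy.symm
    exact ⟨g, hg⟩
  have hr : ∀ x, #(univ.filter fun q => x ∈ β q) = #O := fun x => by
    have hconst : ∀ y, #(univ.filter fun q => y ∈ β q) = #(univ.filter fun q => x ∈ β q) := fun y => by
      obtain ⟨g, hg⟩ := htrans x y
      refine (card_equiv (MulAction.toPerm g) fun q => ?_).symm
      simp only [mem_filter, mem_univ, true_and, MulAction.toPerm_apply, hβsmul]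
      rw [← hg, smul_mem_smul_finset_iff]
    have h1 := double_count (univ : Finset Ω) (univ : Finset (G ⧸ H)) fun y q => y ∈ β q
    rw [sum_congr rfl (g := fun _ => #(univ.filter fun q => x ∈ β q)) fun y _ => hconst y,
      sum_const, sum_congr rfl (g := fun _ => #O) fun q _ => by rw [filter_univ_mem, hcard],
      sum_const, card_univ, card_univ, hι, smul_eq_mul, smul_eq_mul] at h1
    exact Nat.eq_of_mul_eq_mul_left (by omega) h1
  have hinj : Function.Injective β := fun i j hij => by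
    by_contra hne
    have hl : #O = lam := by
      rw [← inter_eq β hι hcard hr hp hk2 hne, hij, inter_self, hcard]
    obtain ⟨x, hx, -⟩ := hOne a
    have hxa : x ≠ a := fun e => hx (e ▸ haO)
    have heq : (univ.filter fun q => a ∈ β q) = univ.filter fun q => a ∈ β q ∧ x ∈ β q :=
      (eq_of_subset_of_card_le (fun q hq => by
        simp only [mem_filter, mem_univ, true_and] at hq ⊢; exact hq.1)
        (by rw [hr, hp a x hxa.symm, hl])).symm
    have h1 : (QuotientGroup.mk 1 : G ⧸ H) ∈ univ.filter fun q => a ∈ β q := by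
      simp [hβ, haO]
    rw [heq] at h1
    simp [hβ, hx] at h1
  have hfilter : ∀ (p : Finset Ω → Prop) [DecidablePred p],
      #((univ.image β).filter p) = #(univ.filter fun q => p (β q)) := fun p _ => by
    rw [filter_image, card_image_of_injective _ hinj]
  let D : Design Ω :=
    { blocks := univ.image β
      k := #O
      lam := lam
      card_blocks := by rw [card_image_of_injective _ hinj, card_univ, hι]
      card_block := fun B hB => by
        obtain ⟨q, -, rfl⟩ := mem_image.1 hB; exact hcard q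
      card_thru := fun x => (hfilter fun B => x ∈ B).trans (hr x)
      card_pair := fun x y hxy => (hfilter fun B => x ∈ B ∧ y ∈ B).trans (hp x y hxy)
      two_le_k := hk2
      k_add_two_le := hk }
  have hblk : ∀ B ∈ D.blocks, ∃ g : G, g • O = B := fun B hB => by
    obtain ⟨q, -, rfl⟩ := mem_image.1 hB
    induction q using QuotientGroup.induction_on with | _ x => ?_
    exact ⟨x, (hβ x).symm⟩
  have hOb : ∀ g : G, g • O ∈ D.blocks := fun g => mem_image.2 ⟨_, mem_univ _, hβ g⟩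
  have hA : D.IsAut G := fun g B hB => by
    obtain ⟨x, rfl⟩ := hblk B hB
    rw [← mul_smul]; exact hOb _
  have honB : ∀ B ∈ D.blocks, ∀ x ∈ B, ∀ y ∈ B, ∃ g : G, g • B = B ∧ g • x = y := by
    intro B hB x hx y hy
    obtain ⟨g, rfl⟩ := hblk B hB
    obtain ⟨x', hx', rfl⟩ := mem_smul_finset.1 hx
    obtain ⟨y', hy', rfl⟩ := mem_smul_finset.1 hy
    obtain ⟨s, hs, rfl⟩ := (hO x').1 hx'
    obtain ⟨t, ht, rfl⟩ := (hO y').1 hy'
    refine ⟨g * (t * s⁻¹) * g⁻¹, ?_, ?_⟩
    · rw [mul_smul, inv_smul_smul, mul_smul, hHO _ (mul_mem ht (inv_mem hs))]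
    · rw [mul_smul, inv_smul_smul, mul_smul, mul_smul, inv_smul_smul]
  -- the stabiliser of a point has two orbits on blocks
  have hmiss : ∀ x : Ω, ∀ B ∈ D.blocks, x ∉ B → ∀ C ∈ D.blocks, x ∉ C →
      ∃ g : G, g • x = x ∧ g • B = C := by
    intro x B hB hxB C hC hxC
    obtain ⟨z, -, hz⟩ := hOne x
    obtain ⟨C₁, hC₁⟩ : (D.thru x).Nonempty :=
      card_pos.1 (by rw [Design.card_thru']; have := D.two_le_k; omega)
    obtain ⟨hC₁b, hxC₁⟩ := Design.mem_thru.1 hC₁
    have horb : Nat.card (Quotient (MulAction.orbitRel (MulAction.stabilizer G x) Ω)) = 2 := by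
      refine (two_orbits_iff (fun u => u = x) (fun s u => ?_) (a := x) (b := z) rfl hz).2
        ⟨fun u hu => ⟨1, by rw [hu, one_smul]⟩, fun u hu => ?_⟩
      · show (s : G) • u = x ↔ u = x
        constructor
        · intro e; exact smul_left_cancel (s : G) (e.trans s.2.symm)
        · rintro rfl; exact s.2
      · obtain ⟨g, hg, hgu⟩ := h2' hz.symm (Ne.symm hu)
        exact ⟨⟨g, hg⟩, hgu⟩
    rw [Design.card_orbits_eq hA] at horb
    have := ((two_orbits_iff (fun A : Design.blk hA => x ∈ A.1)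
      (fun s A => by
        show x ∈ (s : G) • A.1 ↔ _
        obtain ⟨g, hg⟩ := s
        rw [MulAction.mem_stabilizer_iff] at hg
        show x ∈ g • A.1 ↔ _
        conv_lhs => rw [← hg]
        exact smul_mem_smul_finset_iff _)
      (a := ⟨C₁, hC₁b⟩) (b := ⟨B, hB⟩) hxC₁ hxB).1 horb).2 ⟨C, hC⟩ hxC
    obtain ⟨s, hs⟩ := this
    exact ⟨s.1, s.2, congrArg Subtype.val hs⟩
  have hoffB : ∀ B ∈ D.blocks, ∀ x, x ∉ B → ∀ y, y ∉ B → ∃ g : G, g • B = B ∧ g • x = y := by
    intro B hB x hx y hy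
    obtain ⟨g₀, hg₀⟩ := htrans x y
    obtain ⟨s, hs, hsB⟩ := hmiss y (g₀ • B) (hA _ _ hB)
      (by rw [← hg₀, smul_mem_smul_finset_iff]; exact hx) B hB hy
    exact ⟨s * g₀, by rw [mul_smul, hsB], by rw [mul_smul, hg₀, hs]⟩
  refine ⟨D, hA, fun g hg => FaithfulSMul.eq_of_smul_eq_smul fun x : Ω => by rw [hg, one_smul],
    fun x y x' y' hxy hxy' => h2' hxy hxy', honB, hoffB, ?_, ?_⟩
  · intro B hB C hC hCB C' hC' hC'B
    obtain ⟨x₀, hx₀⟩ : B.Nonempty := card_pos.1 (by rw [D.card_block B hB]; have := D.two_le_k; omega)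
    obtain ⟨y₀, hy₀⟩ := Design.exists_not_mem hB
    have horb : Nat.card (Quotient (MulAction.orbitRel (MulAction.stabilizer G B) Ω)) = 2 := by
      refine (two_orbits_iff (fun u => u ∈ B) (fun s u => ?_) (a := x₀) (b := y₀) hx₀ hy₀).2
        ⟨fun u hu => ?_, fun u hu => ?_⟩
      · show (s : G) • u ∈ B ↔ u ∈ B
        obtain ⟨g, hg⟩ := s
        rw [MulAction.mem_stabilizer_iff] at hg
        show g • u ∈ B ↔ u ∈ B
        conv_lhs => rw [← hg]
        exact smul_mem_smul_finset_iff _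
      · obtain ⟨g, hg, hgu⟩ := honB B hB x₀ hx₀ u hu
        exact ⟨⟨g, hg⟩, hgu⟩
      · obtain ⟨g, hg, hgu⟩ := hoffB B hB y₀ hy₀ u hu
        exact ⟨⟨g, hg⟩, hgu⟩
    rw [Design.card_orbits_eq hA] at horb
    have := ((two_orbits_iff (fun A : Design.blk hA => A.1 = B)
      (fun s A => by
        show (s : G) • A.1 = B ↔ _
        obtain ⟨g, hg⟩ := s
        rw [MulAction.mem_stabilizer_iff] at hg
        show g • A.1 = B ↔ _
        conv_lhs => rhs; rw [← hg]
        exact (MulAction.injective g).eq_iff)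
      (a := ⟨B, hB⟩) (b := ⟨C, hC⟩) rfl hCB).1 horb).2 ⟨C', hC'⟩ hC'B
    obtain ⟨s, hs⟩ := this
    exact ⟨s.1, s.2, congrArg Subtype.val hs⟩
  · intro B hB
    obtain ⟨g, rfl⟩ := hblk B hB
    refine ⟨g * h₀ * g⁻¹, fun e => hh₀ (Subtype.ext (by simpa using e)), Axial.conj g fun x hx => ?_⟩
    exact hh₀fix x (by simpa [hOdef] using hx)

end CfsgLib.SymmDesign
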