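import Cfsg.Agent.Lib.Recog.SymmDesign.Elation
import Mathlib.GroupTheory.Perm.Cycle.Type
import Mathlib.GroupTheory.Exponent

/-!
# The elations with a given axis: an elementary abelian group, regular off the axis
-/

set_option autoImplicit false

open Finset
open scoped Pointwise

namespace CfsgLib.SymmDesign

/-- An invariant finite set on which all stabilisers have order `c`. -/
theorem exists_mul_of_stabilizer {S X : Type*} [Group S] [Finite S] [MulAction S X] [DecidableEq X]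
    (s : Finset X) (hs : ∀ g : S, ∀ x ∈ s, g • x ∈ s) {c : ℕ}
    (hc : ∀ x ∈ s, Nat.card (MulAction.stabilizer S x) = c) :
    ∃ N, #s * c = N * Nat.card S := by
  classical
  let o : X → Finset X := fun x => s.filter fun y => y ∈ MulAction.orbit S x
  refine ⟨#(s.image o), ?_⟩
  rw [card_eq_sum_card_image o s, sum_mul, sum_congr rfl (g := fun _ => Nat.card S) fun t ht => ?_,
    sum_const, smul_eq_mul]
  obtain ⟨x, hx, rfl⟩ := mem_image.1 ht
  rw [← hc x hx, ← Nat.card_congr (MulAction.orbitProdStabilizerEquivGroup S x), Nat.card_prod]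
  congr 1
  rw [← Nat.card_eq_finsetCard]
  refine Nat.card_congr (Equiv.subtypeEquivRight fun y => ?_)
  simp only [mem_filter, o, Finset.ext_iff]
  refine ⟨fun ⟨hy, h⟩ => ((h y).1 ⟨hy, MulAction.mem_orbit_self y⟩).2, fun h => ?_⟩
  have hys : y ∈ s := by obtain ⟨g, rfl⟩ := h; exact hs g x hx
  exact ⟨hys, fun z => by rw [MulAction.orbit_eq_iff.2 h]⟩

variable {Ω : Type*} [Fintype Ω] [DecidableEq Ω] {D : Design Ω}
  {G : Type*} [Group G] [MulAction G Ω]

/-- The blocks fixed by `a` are those through `p`. -/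
def IsCenter (D : Design Ω) (a : G) (p : Ω) : Prop := ∀ B ∈ D.blocks, a • B = B ↔ p ∈ B

theorem IsCenter.unique {a : G} {p q : Ω} (hp : IsCenter D a p) (hq : IsCenter D a q) : p = q :=
  Design.eq_of_thru_subset (D := D) fun B hB => by
    obtain ⟨h1, h2⟩ := Design.mem_thru.1 hB
    exact Design.mem_thru.2 ⟨h1, (hq B h1).1 ((hp B h1).2 h2)⟩

theorem IsCenter.inv {a : G} {p : Ω} (hp : IsCenter D a p) : IsCenter D a⁻¹ p := fun B hB => by
  rw [inv_smul_eq_iff, eq_comm]; exact hp B hB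

theorem IsCenter.conj {a : G} {p : Ω} (hA : D.IsAut G) (h : G) (hp : IsCenter D a p) :
    IsCenter D (h * a * h⁻¹) (h • p) := fun B hB => by
  rw [← mem_inv_smul_finset_iff, ← hp _ (hA h⁻¹ B hB), mul_smul, mul_smul, eq_inv_smul_iff]

theorem IsElation.inv {a : G} {B : Finset Ω} (h : IsElation a B) : IsElation a⁻¹ B :=
  ⟨h.1.inv, fun x hx e => h.2 x hx (inv_smul_eq_iff.1 e).symm⟩

theorem IsElation.conj {a : G} {B : Finset Ω} (g : G) (h : IsElation a B) :
    IsElation (g * a * g⁻¹) (g • B) :=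
  ⟨h.1.conj g, fun x hx e => h.2 (g⁻¹ • x) (fun hm => hx (inv_smul_mem_iff.1 hm)) (by
    rw [mul_smul, mul_smul] at e
    rw [← eq_inv_smul_iff] at e
    exact e)⟩

theorem IsElation.ne_one {a : G} {B : Finset Ω} (hB : B ∈ D.blocks) (h : IsElation a B) :
    a ≠ 1 := fun e => by
  obtain ⟨x, hx⟩ := Design.exists_not_mem hB
  exact h.2 x hx (by rw [e, one_smul])

/-- Through a moved point, the line to the centre. -/
theorem IsCenter.pair_eq {a : G} {B : Finset Ω} (hA : D.IsAut G) (hB : B ∈ D.blocks)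
    (ha : IsElation a B) {p : Ω} (hpB : p ∈ B) (hp : IsCenter D a p) {z : Ω} (hz : z ∉ B) :
    D.pair p z = D.pair z (a • z) := by
  refine eq_of_subset_of_card_le (fun C hC => ?_) (by
    rw [Design.card_pair' (ha.2 z hz).symm, Design.card_pair' (by rintro rfl; exact hz hpB)])
  obtain ⟨h1, h2, h3⟩ := Design.mem_pair.1 hC
  exact Design.mem_pair.2 ⟨h1, h3, (ha.1.fixed_thru hA hB (ha.2 z hz) h1 h3).1 ((hp C h1).2 h2)⟩

namespace Rich

variable [Finite G] (hR : Rich D G) {B : Finset Ω} (hB : B ∈ D.blocks)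

include hR hB in
theorem center_mul {g h : G} (hg : IsElation g B) (hh : IsElation h B) (hne : g * h ≠ 1) :
    IsElation (g * h) B := by
  refine ⟨hg.1.mul hh.1, fun x hx e => ?_⟩
  obtain ⟨p, hpB, hp⟩ := hR.exists_center hB hg
  obtain ⟨q, hqB, hq⟩ := hR.exists_center hB hh
  have hp' : IsCenter D g⁻¹ p := IsCenter.inv hp
  have e' : g⁻¹ • x = h • x := by rw [inv_smul_eq_iff, ← mul_smul, e]
  have hpair : D.pair p x = D.pair q x := by
    rw [hp'.pair_eq hR.aut hB hg.inv hpB hx, e', IsCenter.pair_eq hR.aut hB hh hqB hq hx]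
  have hpx : p ≠ x := by rintro rfl; exact hx hpB
  by_cases hpq : p = q
  · subst hpq
    obtain ⟨z, hz⟩ : ∃ z : Ω, (g * h) • z ≠ z := by
      by_contra! h'; exact hne (hR.faithful _ h')
    exact hz (Axial.trivial_of_center hR.aut hB (hg.1.mul hh.1) hpB e hx (fun C hC hpC => by
      rw [mul_smul, (hq C hC).2 hpC, (hp C hC).2 hpC]) z)
  · have hsub : D.pair p x ⊆ D.pair p q := fun C hC => by
      obtain ⟨h1, h2, _⟩ := Design.mem_pair.1 hC
      exact Design.mem_pair.2 ⟨h1, h2, (Design.mem_pair.1 (hpair ▸ hC)).2.1⟩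
    have := eq_of_subset_of_card_le hsub (by
      rw [Design.card_pair' hpx, Design.card_pair' hpq])
    have hmem : B ∈ D.pair p x := this ▸ Design.mem_pair.2 ⟨hB, hpB, hqB⟩
    exact hx (Design.mem_pair.1 hmem).2.2

/-- The identity and the elations with axis `B`. -/
def T : Subgroup G where
  carrier := {g | g = 1 ∨ IsElation g B}
  one_mem' := Or.inl rfl
  mul_mem' := by
    rintro g h (rfl | hg) (rfl | hh)
    · exact Or.inl (one_mul 1)
    · exact Or.inr (by rwa [one_mul])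
    · exact Or.inr (by rwa [mul_one])
    · by_cases hne : g * h = 1
      · exact Or.inl hne
      · exact Or.inr (hR.center_mul hB hg hh hne)
  inv_mem' := by
    rintro g (rfl | hg)
    · exact Or.inl inv_one
    · exact Or.inr hg.inv

/-- The elations with axis `B` fixing all blocks through `p`. -/
def E (p : Ω) : Subgroup G where
  carrier := {g | g ∈ hR.T hB ∧ ∀ C ∈ D.blocks, p ∈ C → g • C = C}
  one_mem' := ⟨one_mem _, fun C _ _ => one_smul G C⟩
  mul_mem' := fun ha hb => ⟨mul_mem ha.1 hb.1,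
    fun C hC hp => by rw [mul_smul, hb.2 C hC hp, ha.2 C hC hp]⟩
  inv_mem' := fun ha => ⟨inv_mem ha.1,
    fun C hC hp => by rw [inv_smul_eq_iff, ha.2 C hC hp]⟩

/-- The elations with axis `B` fixing the block `C`. -/
def M (C : Finset Ω) : Subgroup G := hR.T hB ⊓ MulAction.stabilizer G C

include hR hB

theorem mem_T {g : G} : g ∈ hR.T hB ↔ g = 1 ∨ IsElation g B := Iff.rfl

theorem mem_E {g : G} {p : Ω} :
    g ∈ hR.E hB p ↔ g ∈ hR.T hB ∧ ∀ C ∈ D.blocks, p ∈ C → g • C = C := Iff.rfl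

theorem elation_of_T {g : G} (hg : g ∈ hR.T hB) (h1 : g ≠ 1) : IsElation g B :=
  ((hR.mem_T hB).1 hg).resolve_left h1

theorem axial_of_T {g : G} (hg : g ∈ hR.T hB) : Axial g B := by
  rcases (hR.mem_T hB).1 hg with rfl | h
  exacts [fun x _ => one_smul G x, h.1]

theorem center_of_T {g : G} (hg : g ∈ hR.T hB) (h1 : g ≠ 1) :
    ∃ p ∈ B, IsCenter D g p ∧ g ∈ hR.E hB p := by
  obtain ⟨p, hpB, hp⟩ := hR.exists_center hB (hR.elation_of_T hB hg h1)
  exact ⟨p, hpB, hp, hg, fun C hC h => (hp C hC).2 h⟩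

theorem center_of_E {g : G} {p : Ω} (hg : g ∈ hR.E hB p) (h1 : g ≠ 1) : IsCenter D g p := by
  obtain ⟨q, -, hq, -⟩ := hR.center_of_T hB hg.1 h1
  have : p = q := Design.eq_of_thru_subset (D := D) fun C hC => by
    obtain ⟨hC1, hC2⟩ := Design.mem_thru.1 hC
    exact Design.mem_thru.2 ⟨hC1, (hq C hC1).1 (hg.2 C hC1 hC2)⟩
  exact this ▸ hq

theorem E_disjoint {g : G} {p q : Ω} (hg : g ∈ hR.E hB p) (hg' : g ∈ hR.E hB q) (hpq : p ≠ q) :
    g = 1 :=
  by_contra fun h1 => hpq ((hR.center_of_E hB hg h1).unique (hR.center_of_E hB hg' h1))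

theorem T_conj {g : G} (h : G) (hh : h • B = B) (hg : g ∈ hR.T hB) :
    h * g * h⁻¹ ∈ hR.T hB := by
  rcases (hR.mem_T hB).1 hg with rfl | hg
  · simp
  · have := hg.conj h
    rw [hh] at this
    exact Or.inr this

theorem E_conj {g : G} {p : Ω} (h : G) (hh : h • B = B) (hg : g ∈ hR.E hB p) :
    h * g * h⁻¹ ∈ hR.E hB (h • p) :=
  ⟨hR.T_conj hB h hh hg.1, fun C hC hp => by
    have := hg.2 (h⁻¹ • C) (hR.aut _ _ hC) (mem_inv_smul_finset_iff.2 hp)
    rw [mul_smul, mul_smul, this, smul_inv_smul]⟩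

theorem E_nontrivial {p : Ω} (hp : p ∈ B) : ∃ g ∈ hR.E hB p, g ≠ 1 := by
  obtain ⟨a, ha⟩ := hR.exists_elation hB
  obtain ⟨q, hq, -, hqE⟩ := hR.center_of_T hB (Or.inr ha) (ha.ne_one hB)
  obtain ⟨h, hh, hhq⟩ := hR.onB B hB q hq p hp
  exact ⟨h * a * h⁻¹, hhq ▸ hR.E_conj hB h hh hqE, fun e => ha.ne_one hB (by simpa using e)⟩

theorem exists_other {p : Ω} : ∃ q ∈ B, q ≠ p :=
  exists_mem_ne (by rw [D.card_block B hB]; exact D.two_le_k) p

theorem commute_of_ne {g h : G} {p q : Ω} (hp : p ∈ B) (hq : q ∈ B) (hg : g ∈ hR.E hB p)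
    (hh : h ∈ hR.E hB q) (hpq : p ≠ q) : Commute g h := by
  have h1 := hR.E_conj hB g (hR.axial_of_T hB hg.1).smul_block hh
  rw [hR.axial_of_T hB hg.1 q hq] at h1
  have h2 := hR.E_conj hB h (hR.axial_of_T hB hh.1).smul_block (inv_mem hg)
  rw [hR.axial_of_T hB hh.1 p hp] at h2
  have h3 := hR.E_disjoint hB (g := g * h * g⁻¹ * h⁻¹) (p := p) (q := q)
    (by simpa [mul_assoc] using mul_mem hg h2) (mul_mem h1 (inv_mem hh)) hpq
  rw [mul_inv_eq_one, mul_inv_eq_iff_eq_mul] at h3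
  exact h3

theorem T_comm {g h : G} (hg : g ∈ hR.T hB) (hh : h ∈ hR.T hB) : Commute g h := by
  by_cases hg1 : g = 1
  · rw [hg1]; exact Commute.one_left h
  by_cases hh1 : h = 1
  · rw [hh1]; exact Commute.one_right g
  obtain ⟨p, hp, -, hgp⟩ := hR.center_of_T hB hg hg1
  obtain ⟨q, hq, -, hhq⟩ := hR.center_of_T hB hh hh1
  by_cases hpq : p = q
  · subst hpq
    obtain ⟨r, hr, hrp⟩ := hR.exists_other hB (p := p)
    obtain ⟨w, hw, hw1⟩ := hR.E_nontrivial hB hr
    have hhw : h * w ∈ hR.T hB := mul_mem hh hw.1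
    by_cases hhw1 : h * w = 1
    · rw [eq_inv_of_mul_eq_one_left hhw1]
      exact (hR.commute_of_ne hB hp hr hgp hw hrp.symm).inv_right
    obtain ⟨s, hs, -, hhs⟩ := hR.center_of_T hB hhw hhw1
    have hsp : p ≠ s := by
      rintro rfl
      exact hw1 (hR.E_disjoint hB hw (by simpa using mul_mem (inv_mem hhq) hhs) hrp)
    have := (hR.commute_of_ne hB hp hs hgp hhs hsp).mul_right
      (hR.commute_of_ne hB hp hr hgp hw hrp.symm).inv_right
    rwa [mul_inv_cancel_right] at this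
  · exact hR.commute_of_ne hB hp hq hgp hhq hpq

theorem exists_exponent : ∃ r : ℕ, r.Prime ∧ ∀ g ∈ hR.T hB, g ^ r = 1 := by
  obtain ⟨a, ha⟩ := hR.exists_elation hB
  obtain ⟨r, hr, hdvd⟩ := Nat.exists_prime_and_dvd (n := Nat.card (hR.T hB))
    fun h => ha.ne_one hB (congrArg Subtype.val
      ((Nat.card_eq_one_iff_unique.1 h).1.elim (⟨a, Or.inr ha⟩ : hR.T hB) 1))
  refine ⟨r, hr, ?_⟩
  haveI := Fact.mk hr
  obtain ⟨u, hu⟩ := exists_prime_orderOf_dvd_card' r hdvd
  have hu1 : (u : G) ≠ 1 := fun h => by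
    rw [OneMemClass.coe_eq_one.1 h, orderOf_one] at hu; exact hr.one_lt.ne hu
  have hur : (u : G) ^ r = 1 := by rw [← hu, ← SubmonoidClass.coe_pow, pow_orderOf_eq_one]; rfl
  obtain ⟨p, hp, -, hup⟩ := hR.center_of_T hB u.2 hu1
  have key : ∀ {w z : G} {s t : Ω}, w ∈ hR.E hB s → w ≠ 1 → w ^ r = 1 → z ∈ hR.E hB t →
      t ≠ s → z ^ r = 1 := by
    intro w z s t hw hw1 hwr hz hts
    by_contra hzr
    have hwz : w * z ≠ 1 := fun h => hw1 (hR.E_disjoint hB hw
      (by rw [eq_inv_of_mul_eq_one_left h]; exact inv_mem hz) hts.symm)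
    obtain ⟨y, -, -, hy⟩ := hR.center_of_T hB (mul_mem hw.1 hz.1) hwz
    have hpow : (w * z) ^ r = z ^ r := by
      rw [(hR.T_comm hB hw.1 hz.1).mul_pow, hwr, one_mul]
    have hyt : y = t := by_contra fun h =>
      hzr (hR.E_disjoint hB (hpow ▸ pow_mem hy r) (pow_mem hz r) h)
    subst hyt
    exact hw1 (hR.E_disjoint hB hw (by simpa using mul_mem hy (inv_mem hz)) hts.symm)
  obtain ⟨s, hs, hsp⟩ := hR.exists_other hB (p := p)
  obtain ⟨w, hw, hw1⟩ := hR.E_nontrivial hB hs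
  intro g hg
  by_cases hg1 : g = 1
  · rw [hg1, one_pow]
  obtain ⟨t, -, -, hgt⟩ := hR.center_of_T hB hg hg1
  by_cases htp : t = p
  · exact key hw hw1 (key hup hu1 hur hw hsp) hgt (htp ▸ hsp.symm)
  · exact key hup hu1 hur hgt htp

theorem card_E_eq {p q : Ω} (hp : p ∈ B) (hq : q ∈ B) :
    Nat.card (hR.E hB p) = Nat.card (hR.E hB q) := by
  obtain ⟨h, hh, hhp⟩ := hR.onB B hB p hp q hq
  have hh' : h⁻¹ • B = B := inv_smul_eq_iff.2 hh.symm
  refine Nat.card_congr
    { toFun := fun g => ⟨h * g * h⁻¹, hhp ▸ hR.E_conj hB h hh g.2⟩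
      invFun := fun g => ⟨h⁻¹ * g * h, ?_⟩
      left_inv := fun g => Subtype.ext (by simp [mul_assoc])
      right_inv := fun g => Subtype.ext (by simp [mul_assoc]) }
  have := hR.E_conj hB h⁻¹ hh' g.2
  rw [inv_inv, inv_smul_eq_iff.2 hhp.symm] at this
  exact this

theorem mem_M {g : G} {C : Finset Ω} : g ∈ hR.M hB C ↔ g ∈ hR.T hB ∧ g • C = C := Iff.rfl

theorem E_le_M {p : Ω} {C : Finset Ω} (hC : C ∈ D.blocks) (hp : p ∈ C) :
    hR.E hB p ≤ hR.M hB C := fun _ hg => ⟨hg.1, hg.2 C hC hp⟩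

theorem center_mem_of_M {g : G} {p : Ω} {C : Finset Ω} (hC : C ∈ D.blocks) (hg : g ∈ hR.M hB C)
    (h1 : g ≠ 1) (hgp : g ∈ hR.E hB p) : p ∈ C :=
  (hR.center_of_E hB hgp h1 C hC).1 hg.2

theorem card_union {s : Finset Ω} (hs : s ⊆ B) {S : Subgroup G} (hS : S ≤ hR.T hB)
    (hmem : ∀ g ∈ S, g ≠ 1 → ∀ p ∈ B, g ∈ hR.E hB p → p ∈ s)
    (hle : ∀ p ∈ s, hR.E hB p ≤ S) {ε : ℕ} (hε : ∀ p ∈ B, Nat.card (hR.E hB p) = ε) :
    Nat.card S = 1 + #s * (ε - 1) := by
  classical
  haveI := Fintype.ofFinite G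
  have e1 : Nat.card S = #(univ.filter fun g : G => g ∈ S) := by
    rw [← Nat.card_eq_finsetCard]; exact Nat.card_congr (Equiv.subtypeEquivRight fun g => by simp)
  have e2 : univ.filter (fun g : G => g ∈ S) =
      insert 1 (s.biUnion fun p => (univ.filter fun g : G => g ∈ hR.E hB p).erase 1) := by
    ext g
    simp only [mem_filter, mem_univ, true_and, mem_insert, mem_biUnion, mem_erase]
    refine ⟨fun hg => ?_, ?_⟩
    · by_cases hg1 : g = 1
      · exact Or.inl hg1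
      · obtain ⟨p, hp, -, hgp⟩ := hR.center_of_T hB (hS hg) hg1
        exact Or.inr ⟨p, hmem g hg hg1 p hp hgp, hg1, hgp⟩
    · rintro (rfl | ⟨p, hp, -, hg⟩)
      exacts [one_mem S, hle p hp hg]
  rw [e1, e2, card_insert_of_notMem (by simp), card_biUnion ?_,
    sum_congr rfl (g := fun _ => ε - 1) fun p hp => by
      rw [card_erase_of_mem (by simp [one_mem]), ← hε p (hs hp), ← Nat.card_eq_finsetCard]
      congr 1; exact Nat.card_congr (Equiv.subtypeEquivRight fun g => by simp),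
    sum_const, smul_eq_mul, add_comm]
  intro p hp q hq hpq
  simp only [Function.onFun, disjoint_left, mem_erase, mem_filter, mem_univ, true_and]
  exact fun g ⟨hg1, hg⟩ ⟨_, hg'⟩ => hg1 (hR.E_disjoint hB hg hg' hpq)

/-- The parameters. -/
theorem params : ∃ q : ℕ, 2 ≤ q ∧ D.k = D.lam * q + 1 ∧
    (∀ p ∈ B, Nat.card (hR.E hB p) = q) ∧
    Nat.card (hR.T hB) = Fintype.card Ω - D.k ∧
    Nat.card (hR.T hB) = q * (D.k - D.lam) ∧
    ∀ C ∈ D.blocks, C ≠ B → Nat.card (hR.M hB C) = D.k - D.lam := by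
  classical
  obtain ⟨p₀, hp₀⟩ : B.Nonempty := card_pos.1 (by rw [D.card_block B hB]; have := D.two_le_k; omega)
  set ε := Nat.card (hR.E hB p₀) with hεdef
  have hε : ∀ p ∈ B, Nat.card (hR.E hB p) = ε := fun p hp => hR.card_E_eq hB hp hp₀
  have hε2 : 2 ≤ ε := by
    obtain ⟨g, hg, hg1⟩ := hR.E_nontrivial hB hp₀
    exact Finite.one_lt_card_iff_nontrivial.2 ⟨⟨g, hg⟩, 1, fun h => hg1 (congrArg Subtype.val h)⟩
  have hd : Nat.card (hR.T hB) = 1 + D.k * (ε - 1) := by
    rw [hR.card_union hB (subset_refl B) le_rfl (fun _ _ _ p hp _ => hp) (fun p _ => fun g hg => hg.1)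
      hε, D.card_block B hB]
  have hc : ∀ C ∈ D.blocks, C ≠ B → Nat.card (hR.M hB C) = 1 + D.lam * (ε - 1) := fun C hC hne => by
    rw [hR.card_union hB (s := B ∩ C) (S := hR.M hB C) inter_subset_left inf_le_left
      (fun g hg hg1 p hp hgp => mem_inter.2 ⟨hp, hR.center_mem_of_M hB hC hg hg1 hgp⟩)
      (fun p hp => hR.E_le_M hB hC (mem_inter.1 hp).2) hε,
      Design.inter_card hB hC hne.symm]
  obtain ⟨o, ho⟩ := Design.exists_not_mem hB
  obtain ⟨C, hC⟩ : (D.thru o).Nonempty :=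
    card_pos.1 (by rw [Design.card_thru']; have := D.two_le_k; omega)
  obtain ⟨hC, hoC⟩ := Design.mem_thru.1 hC
  have hne : C ≠ B := fun h => ho (h ▸ hoC)
  set c := 1 + D.lam * (ε - 1) with hcdef
  -- the elations fixing `C` move the points of `C` off the axis semiregularly
  obtain ⟨e, he⟩ := exists_mul_of_stabilizer (S := hR.M hB C) (C \ B) (c := 1)
    (fun g x hx => by
      obtain ⟨h1, h2⟩ := mem_sdiff.1 hx
      have hgC : (g : G) • C = C := g.2.2
      have h1' : (g : G) • x ∈ (g : G) • C := smul_mem_smul_finset h1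
      rw [hgC] at h1'
      refine mem_sdiff.2 ⟨h1', fun (h : (g : G) • x ∈ B) => h2 ?_⟩
      have := hR.axial_of_T hB g.2.1 _ h
      rwa [smul_left_cancel _ this] at h)
    (fun x hx => by
      rw [Nat.card_eq_one_iff_unique]
      refine ⟨⟨fun g g' => ?_⟩, ⟨1⟩⟩
      have key : ∀ g : MulAction.stabilizer (hR.M hB C) x, g = 1 := fun g => by
        by_contra hg1
        exact (hR.elation_of_T hB g.1.2.1 fun h => hg1 (Subtype.ext (Subtype.ext h))).2 x
          (mem_sdiff.1 hx).2 g.2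
      rw [key g, key g'])
  rw [card_sdiff, inter_comm, D.card_block C hC, Design.inter_card hC hB hne, mul_one,
    hc C hC hne] at he
  -- the elations permute the blocks through `p₀` other than the axis
  obtain ⟨N, hN⟩ := exists_mul_of_stabilizer (S := hR.T hB) ((D.thru p₀).erase B) (c := c)
    (fun g A hA => by
      obtain ⟨hAB, hA1, hA2⟩ := by simpa [Design.mem_thru] using hA
      refine mem_erase.2 ⟨fun h => hAB ?_, Design.mem_thru.2 ⟨hR.aut _ _ hA1, ?_⟩⟩
      · exact smul_left_cancel (g : G) (h.trans (hR.axial_of_T hB g.2).smul_block.symm)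
      · rw [← hR.axial_of_T hB g.2 p₀ hp₀]; exact smul_mem_smul_finset hA2)
    (fun A hA => by
      obtain ⟨hAB, hA1, hA2⟩ := by simpa [Design.mem_thru] using hA
      rw [← hc A hA1 hAB]
      exact Nat.card_congr
        { toFun := fun g => ⟨g.1.1, g.1.2, g.2⟩
          invFun := fun g => ⟨⟨g.1, g.2.1⟩, g.2.2⟩
          left_inv := fun _ => rfl
          right_inv := fun _ => rfl })
  rw [card_erase_of_mem (Design.mem_thru.2 ⟨hB, hp₀⟩), Design.card_thru'] at hN
  obtain ⟨f, hf⟩ : c ∣ Nat.card (hR.T hB) :=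
    hc C hC hne ▸ Subgroup.card_dvd_of_le inf_le_left
  have h2k := D.lam_add_two_le
  obtain ⟨t, ht⟩ := Nat.exists_eq_add_of_le (show D.lam ≤ D.k by omega)
  clear_value ε
  obtain ⟨ε', rfl⟩ : ∃ ε', ε = ε' + 1 := ⟨ε - 1, by omega⟩
  simp only [Nat.add_sub_cancel] at hcdef hd hc ⊢
  rw [ht, Nat.add_sub_cancel_left] at he
  rw [hf] at hN hd
  have hc0 : 0 < c := by omega
  have hfe : f = 1 + e * ε' := by
    refine Nat.eq_of_mul_eq_mul_left hc0 ?_
    rw [hd, ht, he, hcdef]; ring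
  have hke : D.k = D.lam * f + e := by
    rw [ht, he, hfe, hcdef]; ring
  have hNf : D.k - 1 = N * f := Nat.eq_of_mul_eq_mul_right hc0 (by rw [hN]; ring)
  have he1 : e = 1 := by
    have hepos : e ≠ 0 := by
      rintro rfl; rw [zero_mul] at he; omega
    have hmul : f ∣ e - 1 := by
      have h1 : f ∣ D.lam * f + (e - 1) := ⟨N, by rw [mul_comm f]; omega⟩
      exact (Nat.dvd_add_right (dvd_mul_left f D.lam)).1 h1
    by_contra hne'
    have := Nat.le_of_dvd (by omega) hmul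
    have : e * 1 ≤ e * ε' := Nat.mul_le_mul_left e (by omega)
    omega
  subst he1
  rw [one_mul] at he hfe
  subst hfe
  rw [add_comm 1 ε'] at hf hke
  refine ⟨ε' + 1, hε2, hke, hε, ?_, ?_, fun A hA hA' => ?_⟩
  · refine Nat.eq_of_mul_eq_mul_right D.lam_pos ?_
    rw [D.outside_mul, hf, ht, Nat.add_sub_cancel_left, he, hcdef]
    have : D.lam + (1 + D.lam * ε') - 1 = D.lam * (ε' + 1) := by
      rw [mul_add, mul_one]; omega
    rw [this]; ring
  · rw [hf, ht, Nat.add_sub_cancel_left, he, mul_comm]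
  · rw [hc A hA hA', ht, Nat.add_sub_cancel_left, he]

theorem regular {x y : Ω} (hx : x ∉ B) (hy : y ∉ B) : ∃! g : hR.T hB, (g : G) • x = y := by
  classical
  obtain ⟨q, -, -, -, hT, -⟩ := hR.params hB
  haveI := Fintype.ofFinite (hR.T hB)
  let f : hR.T hB → {z // z ∈ univ \ B} := fun g => ⟨(g : G) • x, mem_sdiff.2 ⟨mem_univ _,
    fun h => hx (smul_left_cancel (g : G) (hR.axial_of_T hB g.2 _ h) ▸ h)⟩⟩
  have hinj : Function.Injective f := fun g h e => by
    have e' : ((h⁻¹ * g : hR.T hB) : G) • x = x := by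
      rw [Subgroup.coe_mul, mul_smul, Subgroup.coe_inv, inv_smul_eq_iff]
      exact congrArg Subtype.val e
    by_contra hne
    exact (hR.elation_of_T hB (h⁻¹ * g : hR.T hB).2
      (fun h1 => hne (inv_mul_eq_one.1 (Subtype.ext h1 : h⁻¹ * g = 1)).symm)).2 x hx e'
  have hbij : Function.Bijective f := (Fintype.bijective_iff_injective_and_card f).2 ⟨hinj, by
    rw [← Nat.card_eq_fintype_card, hT, Fintype.card_coe, card_sdiff_of_subset (subset_univ _),
      card_univ, D.card_block B hB]⟩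
  obtain ⟨g, hg⟩ := hbij.2 ⟨y, mem_sdiff.2 ⟨mem_univ _, hy⟩⟩
  exact ⟨g, congrArg Subtype.val hg, fun h hh => hinj (Subtype.ext (hh.trans
    (congrArg Subtype.val hg).symm))⟩

end Rich

end CfsgLib.SymmDesign
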